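import Mathlib
import Cfsg.Prelude.Def_Characters

/-!
# Linear characters (degree one characters) in the vocabulary of `Def_Characters`

`IsCharacter G μ ∧ μ 1 = 1` is equivalent to `μ` being the coercion of a homomorphism `G →* ℂˣ`.
Also: evaluation of the transfer on elements all of whose conjugates have the same value.
-/

set_option autoImplicit false

namespace Cfsg.Agent.Lib.Helper6

open Cfsg

theorem trace_fin_one (φ : (Fin 1 → ℂ) →ₗ[ℂ] (Fin 1 → ℂ)) :
    LinearMap.trace ℂ (Fin 1 → ℂ) φ = LinearMap.toMatrix' φ 0 0 := by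
  rw [LinearMap.trace_eq_matrix_trace ℂ (Pi.basisFun ℂ (Fin 1))]
  simp [Matrix.trace, LinearMap.toMatrix_eq_toMatrix']

/-- the coercion of homomorphisms to functions, as a monoid hom -/
def linCoe (G : Type*) [Group G] : (G →* ℂˣ) →* (G → ℂ) where
  toFun f := fun g => ((f g : ℂˣ) : ℂ)
  map_one' := by ext g; simp
  map_mul' f h := by ext g; simp

theorem linCoe_apply {G : Type*} [Group G] (f : G →* ℂˣ) (g : G) : linCoe G f g = ((f g : ℂˣ) : ℂ) := rfl

theorem linCoe_injective (G : Type*) [Group G] : Function.Injective (linCoe G) := by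
  intro f h hfh
  ext g
  exact congrFun hfh g

theorem orderOf_linCoe {G : Type*} [Group G] (f : G →* ℂˣ) : orderOf (linCoe G f) = orderOf f :=
  orderOf_injective (linCoe G) (linCoe_injective G) f

/-- A character of degree one is a homomorphism to `ℂˣ`. -/
theorem exists_hom_of_linear {G : Type*} [Group G] {μ : G → ℂ} (h : IsCharacter G μ) (h1 : μ 1 = 1) :
    ∃ f : G →* ℂˣ, μ = linCoe G f := by
  obtain ⟨n, ρ, rfl⟩ := h
  have hn : n = 1 := by
    rw [Representation.char_one] at h1
    simp at h1
    exact h1
  subst hn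
  have hmul : ∀ g h : G, ρ.character (g * h) = ρ.character g * ρ.character h := by
    intro g h
    simp only [Representation.character, map_mul, trace_fin_one]
    rw [Module.End.mul_eq_comp, LinearMap.toMatrix'_comp, Matrix.mul_apply]
    simp
  let m : G →* ℂ :=
    { toFun := ρ.character
      map_one' := h1
      map_mul' := hmul }
  refine ⟨m.toHomUnits, ?_⟩
  ext g
  rfl

/-- the one-dimensional representation attached to a homomorphism to `ℂˣ`. -/
noncomputable def linRep {G : Type*} [Group G] (f : G →* ℂˣ) : Representation ℂ G (Fin 1 → ℂ) where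
  toFun g := ((f g : ℂˣ) : ℂ) • LinearMap.id
  map_one' := by simp; rfl
  map_mul' g h := by
    ext i j
    simp only [map_mul, Units.val_mul, LinearMap.coe_comp, LinearMap.coe_single, Function.comp_apply,
      LinearMap.smul_apply, LinearMap.id_coe, id_eq, Pi.smul_apply, smul_eq_mul, Module.End.mul_apply]
    ring

theorem linRep_character {G : Type*} [Group G] (f : G →* ℂˣ) : (linRep f).character = linCoe G f := by
  ext g
  simp [Representation.character, linRep, linCoe_apply]

theorem isCharacter_linCoe {G : Type*} [Group G] (f : G →* ℂˣ) : IsCharacter G (linCoe G f) :=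
  ⟨1, linRep f, linRep_character f⟩

theorem linCoe_one_apply {G : Type*} [Group G] (f : G →* ℂˣ) : linCoe G f 1 = 1 := by
  simp [linCoe_apply]

theorem isLinear_iff {G : Type*} [Group G] (μ : G → ℂ) :
    (IsCharacter G μ ∧ μ 1 = 1) ↔ ∃ f : G →* ℂˣ, μ = linCoe G f := by
  constructor
  · rintro ⟨h, h1⟩
    exact exists_hom_of_linear h h1
  · rintro ⟨f, rfl⟩
    exact ⟨isCharacter_linCoe f, linCoe_one_apply f⟩

/-- Evaluation of the transfer at an element all of whose (powers') conjugates in `H` are mapped
to the corresponding power of a fixed `a`. -/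
theorem transfer_eq_pow_of_invariant {G A : Type*} [Group G] [CommGroup A] {H : Subgroup G}
    [H.FiniteIndex] (ϕ : H →* A) (n : G) (a : A)
    (key : ∀ (k : ℕ) (g : G) (h : g⁻¹ * n ^ k * g ∈ H), ϕ ⟨g⁻¹ * n ^ k * g, h⟩ = a ^ k) :
    MonoidHom.transfer ϕ n = a ^ H.index := by
  classical
  let _ := H.fintypeQuotientOfFiniteIndex
  rw [MonoidHom.transfer_eq_prod_quotient_orbitRel_zpowers_quot, Subgroup.index_eq_sum_minimalPeriod H n,
    ← Finset.prod_pow_eq_pow_sum]
  exact Finset.prod_congr rfl (fun q _ => key _ _ _)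

end Cfsg.Agent.Lib.Helper6
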