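import Mathlib
import Cfsg.Prelude.Def_Blocks
import Cfsg.Agent.Lib.Helper6.ConvAlg
import Cfsg.Agent.Lib.Helper6.IndBase

/-!
# Central characters and restriction to subgroups
-/

set_option autoImplicit false

namespace Cfsg.Agent.Lib.Helper6

open Cfsg Cfsg.Agent.Lib.Helper2
open scoped ComplexConjugate Classical

attribute [local instance] irrFintype

section

variable {G : Type*} [Group G] [Fintype G]

theorem sum_eq_sum_subgroup_of_support (H : Subgroup G) [Fintype H] {f : G → ℂ}
    (hf : ∀ g, g ∉ H → f g = 0) : ∑ g, f g = ∑ h : H, f h := by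
  rw [← Finset.sum_subtype (Finset.univ.filter (· ∈ H)) (by simp) f]
  symm
  apply Finset.sum_subset (Finset.subset_univ _)
  intro g _ hg
  apply hf
  simpa using hg

/-- A central element of `ℂ G` supported on the subgroup `H` acts on `χ` and on every constituent
of the restriction of `χ` to `H` by the same scalar. -/
theorem om_eq_om_of_constituent (H : Subgroup G) [Fintype H] {z : G → ℂ}
    (hz : IsClassFunction G z) (hsupp : ∀ g, g ∉ H → z g = 0) {χ : G → ℂ}
    (hχ : IsIrrCharacter G χ) (θ : IrrCharacter H)
    (h : classInner (fun h : H => χ h) (θ : H → ℂ) ≠ 0) :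
    om χ z = om (θ : H → ℂ) (fun h : H => z h) := by
  have hzH : IsClassFunction H (fun h : H => z h) := isClassFunction_res H hz
  have hχH : IsClassFunction H (fun h : H => χ h) := isClassFunction_res H (irr_isClassFunction hχ)
  have hexp := classFunction_eq_sum hχH
  set c : IrrCharacter H → ℂ := fun θ' => classInner (fun h : H => χ h) (θ' : H → ℂ) with hc
  have h1 : ∀ n : H, ∑ m : H, z m * χ ((m : G) * n) = om χ z * χ n := by
    intro n
    rw [← sum_class_mul_irr hχ hz (n : G)]
    symm
    apply sum_eq_sum_subgroup_of_support H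
    intro g hg
    rw [hsupp g hg, zero_mul]
  have h2 : ∀ n : H, ∑ m : H, z m * χ ((m : G) * n) =
      ∑ θ' : IrrCharacter H, (c θ' * om (θ' : H → ℂ) (fun h : H => z h)) * (θ' : H → ℂ) n := by
    intro n
    have h3 : ∀ m : H, χ ((m : G) * n) = ∑ θ' : IrrCharacter H, c θ' * (θ' : H → ℂ) (m * n) := by
      intro m
      have := congrFun hexp (m * n)
      simp only [Finset.sum_apply, Pi.smul_apply, smul_eq_mul, Subgroup.coe_mul] at this
      exact this
    simp_rw [h3, Finset.mul_sum]
    rw [Finset.sum_comm]
    refine Finset.sum_congr rfl fun θ' _ => ?_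
    rw [mul_assoc, ← sum_class_mul_irr θ'.2 hzH n, Finset.mul_sum]
    refine Finset.sum_congr rfl fun m _ => by ring
  have h4 : (∑ θ' : IrrCharacter H, (c θ' * om (θ' : H → ℂ) (fun h : H => z h)) • (θ' : H → ℂ)) =
      ∑ θ' : IrrCharacter H, (om χ z * c θ') • (θ' : H → ℂ) := by
    ext n
    simp only [Finset.sum_apply, Pi.smul_apply, smul_eq_mul]
    rw [← h2, h1]
    have := congrFun hexp n
    simp only [Finset.sum_apply, Pi.smul_apply, smul_eq_mul] at this
    rw [this, Finset.mul_sum]
    refine Finset.sum_congr rfl fun θ' _ => by ring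
  have h5 := congrArg (fun f => classInner f (θ : H → ℂ)) h4
  simp only [classInner_sum_irr_left] at h5
  have h6 : c θ * (om (θ : H → ℂ) (fun h : H => z h) - om χ z) = 0 := by
    rw [mul_sub, h5]; ring
  rcases mul_eq_zero.mp h6 with h7 | h7
  · exact absurd h7 h
  · exact (sub_eq_zero.mp h7).symm

/-- The restriction of an irreducible character has a constituent. -/
theorem exists_constituent (H : Subgroup G) [Fintype H] {χ : G → ℂ} (hχ : IsIrrCharacter G χ) :
    ∃ θ : IrrCharacter H, classInner (fun h : H => χ h) (θ : H → ℂ) ≠ 0 := by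
  by_contra hcon
  push Not at hcon
  have hχH : IsClassFunction H (fun h : H => χ h) := isClassFunction_res H (irr_isClassFunction hχ)
  have hexp := congrFun (classFunction_eq_sum hχH) 1
  simp only [Finset.sum_apply, Pi.smul_apply, smul_eq_mul, hcon, zero_mul, Finset.sum_const_zero,
    Subgroup.coe_one] at hexp
  exact irr_one_ne_zero hχ hexp

end

end Cfsg.Agent.Lib.Helper6
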