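import Mathlib
import Cfsg.Prelude.Def_Blocks
import Cfsg.Prelude.Def_Solvable
import Cfsg.Agent.Lib.Helper2.Klein
import Cfsg.Agent.Lib.Helper23.Cores
import Cfsg.Agent.Lib.Helper6.Defect

/-!
# Group theory for Klein four Sylow `2`-subgroups: centralizers of involutions
-/

set_option autoImplicit false

namespace Cfsg.Agent.Lib.Helper6

open Cfsg Cfsg.Agent.Lib.Helper2

theorem klein_normalizer_le_centralizer {H : Type*} [Group H] [Finite H] (Q : Sylow 2 H)
    (hQ : IsKleinFour (Q : Subgroup H)) {z : H} (hz : z ∈ Q) (hz1 : z ≠ 1)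
    (hzc : ∀ h : H, h * z = z * h) :
    Subgroup.normalizer ((Q : Subgroup H) : Set H) ≤
      Subgroup.centralizer ((Q : Subgroup H) : Set H) := by
  intro n hn
  have hconj : ∀ x ∈ Q, n * x * n⁻¹ ∈ Q := fun x hx => (Subgroup.mem_normalizer_iff.mp hn x).mp hx
  have hsq : n ^ 2 ∈ Subgroup.centralizer ((Q : Subgroup H) : Set H) := by
    rw [Subgroup.mem_centralizer_iff]
    intro x hx
    have hx' : x ∈ Q := hx
    by_cases hx1 : x = 1
    · rw [hx1]; simp
    by_cases hxz : x = z
    · rw [hxz, pow_two, ← mul_assoc, ← hzc n, mul_assoc, ← hzc n, mul_assoc]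
    have hw1 : n * x * n⁻¹ ≠ 1 := by
      intro h
      apply hx1
      have : x = n⁻¹ * (n * x * n⁻¹) * n := by group
      rw [this, h]; group
    rcases klein_cases Q hQ hz hx' (hconj x hx') hz1 hx1 (Ne.symm hxz) hw1 with h | h | h
    · exfalso
      apply hxz
      have : x = n⁻¹ * (n * x * n⁻¹) * n := by group
      rw [this, h, mul_assoc, ← hzc n, ← mul_assoc, inv_mul_cancel, one_mul]
    · have h' : n * x = x * n := mul_inv_eq_iff_eq_mul.mp h
      rw [pow_two, ← mul_assoc, ← h', mul_assoc, ← h', mul_assoc]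
    · have h' : n * x = z * x * n := mul_inv_eq_iff_eq_mul.mp h
      have hzz : z * z = 1 := klein_mul_self Q hQ hz
      calc x * n ^ 2 = (z * z) * x * n * n := by rw [hzz, one_mul, pow_two, mul_assoc]
        _ = z * (z * x * n) * n := by group
        _ = z * (n * x) * n := by rw [h']
        _ = (z * n) * x * n := by group
        _ = (n * z) * x * n := by rw [hzc n]
        _ = n * (z * x * n) := by group
        _ = n * (n * x) := by rw [h']
        _ = n ^ 2 * x := by rw [pow_two, mul_assoc]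
  obtain ⟨a, m, hm, ho⟩ := Nat.exists_eq_two_pow_mul_odd (orderOf_pos n).ne'
  have hnm : n ^ m ∈ Q := by
    apply mem_sylow_of_mem_normalizer_of_pow Q (Subgroup.pow_mem _ hn m) (e := a)
    rw [← pow_mul, mul_comm, ← ho, pow_orderOf_eq_one]
  have hnm' : n ^ m ∈ Subgroup.centralizer ((Q : Subgroup H) : Set H) := by
    rw [Subgroup.mem_centralizer_iff]
    intro x hx
    exact klein_comm Q hQ hx hnm
  obtain ⟨t, rfl⟩ := hm
  have : n = n ^ (2 * t + 1) * ((n ^ 2) ^ t)⁻¹ := by
    rw [pow_succ, pow_mul]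
    have hc : Commute ((n ^ 2) ^ t) n := ((Commute.refl n).pow_left 2).pow_left t
    rw [hc.eq, mul_assoc, mul_inv_cancel, mul_one]
  rw [this]
  exact Subgroup.mul_mem _ hnm' (Subgroup.inv_mem _ (Subgroup.pow_mem _ hsq t))

theorem pPrimeCore_index_of_burnside {H : Type*} [Group H] [Finite H] {p : ℕ} [Fact p.Prime]
    (Q : Sylow p H)
    (h : Subgroup.normalizer ((Q : Subgroup H) : Set H) ≤
      Subgroup.centralizer ((Q : Subgroup H) : Set H)) :
    ∃ k : ℕ, (Cfsg.pPrimeCore p H).index = p ^ k := by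
  have hp : p.Prime := Fact.out
  have hc := MonoidHom.ker_transferSylow_isComplement' Q h
  set K := (MonoidHom.transferSylow Q h).ker with hK
  have h1 : K.index = Nat.card Q := hc.symm.index_eq_card
  have h2 : (Q : Subgroup H).index = Nat.card K := hc.index_eq_card
  have h3 : (Nat.card K).Coprime p := by
    rw [← h2]
    exact ((Nat.Prime.coprime_iff_not_dvd hp).mpr Q.not_dvd_index).symm
  have h4 : K ≤ Cfsg.pPrimeCore p H := Cfsg.Agent.Lib.Helper23.le_pPrimeCore inferInstance h3
  have h5 := Subgroup.index_dvd_of_le h4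
  rw [h1, Q.card_eq_multiplicity] at h5
  obtain ⟨j, -, hj⟩ := (Nat.dvd_prime_pow hp).mp h5
  exact ⟨j, hj⟩

theorem isKleinFour_of_mulEquiv {A B : Type*} [Group A] [Group B] (e : A ≃* B)
    (h : IsKleinFour A) : IsKleinFour B where
  card_four := by rw [← Nat.card_congr e.toEquiv]; exact h.card_four
  exponent_two := by rw [← Monoid.exponent_eq_of_mulEquiv e]; exact h.exponent_two

/-- The centralizer of an involution in a group with Klein four Sylow `2`-subgroups has a normal
`2`-complement. -/
theorem klein_cen_index {G : Type*} [Group G] [Finite G] (P : Sylow 2 G)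
    (hP : IsKleinFour (P : Subgroup G)) {z : G} (hz : z ∈ P) (hz1 : z ≠ 1) :
    (P : Subgroup G) ≤ cen z ∧ (∃ k : ℕ, (Cfsg.pPrimeCore 2 (cen z)).index = 2 ^ k) ∧
      (Nat.card (cen z)).factorization 2 = 2 := by
  have hle : (P : Subgroup G) ≤ cen z := by
    intro x hx
    rw [Subgroup.mem_centralizer_singleton_iff]
    exact klein_comm P hP hx hz
  let Q : Sylow 2 (cen z) := P.subtype hle
  have hQcoe : (Q : Subgroup (cen z)) = (P : Subgroup G).subgroupOf (cen z) := P.coe_subtype hle
  have hQ : IsKleinFour (Q : Subgroup (cen z)) := by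
    rw [hQcoe]
    exact isKleinFour_of_mulEquiv (Subgroup.subgroupOfEquivOfLe hle).symm hP
  have hzmem : z ∈ cen z := Subgroup.mem_centralizer_singleton_iff.mpr rfl
  refine ⟨hle, ?_, ?_⟩
  · apply pPrimeCore_index_of_burnside Q
    apply klein_normalizer_le_centralizer Q hQ (z := ⟨z, hzmem⟩)
    · show (⟨z, hzmem⟩ : cen z) ∈ (Q : Subgroup (cen z))
      rw [hQcoe, Subgroup.mem_subgroupOf]
      exact hz
    · intro h
      exact hz1 (congrArg Subtype.val h)
    · intro h
      apply Subtype.ext
      exact Subgroup.mem_centralizer_singleton_iff.mp h.2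
  · have h1 := Q.card_eq_multiplicity
    have h2 : Nat.card (Q : Subgroup (cen z)) = 4 := hQ.card_four
    rw [h2] at h1
    have h3 : (2 : ℕ) ^ 2 = 2 ^ (Nat.card (cen z)).factorization 2 := by rw [← h1]; norm_num
    exact (Nat.pow_right_injective (le_refl 2) h3).symm

end Cfsg.Agent.Lib.Helper6
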