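import Mathlib
import Cfsg.Prelude.Def_Blocks
import Cfsg.Agent.Lib.Helper24.ClassCount

/-!
# Sums of characters over subgroups on which they are constant off the identity
-/

set_option autoImplicit false

namespace Cfsg.Agent.Lib.Helper6

open Cfsg Cfsg.Agent.Lib.Helper2
open scoped ComplexConjugate Classical

section

variable {G : Type*} [Group G] [Fintype G]

theorem sum_subgroup_of_const (A : Subgroup G) (F : G → ℂ) (c : ℂ)
    (h : ∀ x ∈ A, x ≠ 1 → F x = c) :
    ∑ x : G, (if x ∈ A then F x else 0) = F 1 + ((Nat.card A : ℂ) - 1) * c := by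
  have h1 : ∀ x : G, (if x ∈ A then F x else 0) =
      (if x ∈ A then c else 0) + (if x = 1 then F 1 - c else 0) := by
    intro x
    by_cases hx1 : x = 1
    · rw [hx1, if_pos A.one_mem, if_pos A.one_mem, if_pos rfl]; ring
    · rw [if_neg hx1, add_zero]
      by_cases hx : x ∈ A
      · rw [if_pos hx, if_pos hx, h x hx hx1]
      · rw [if_neg hx, if_neg hx]
  simp_rw [h1]
  rw [Finset.sum_add_distrib, sum_ite_mem_subgroup, Finset.sum_ite_eq' Finset.univ (1 : G),
    if_pos (Finset.mem_univ _)]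
  ring

/-- If a character takes the integer value `c` on all non-identity elements of the subgroup `A`,
then `χ(1) ≡ c` modulo `|A|`. -/
theorem card_dvd_degree_sub {χ : G → ℂ} (hχ : IsCharacter G χ) (A : Subgroup G) (c : ℤ)
    (h : ∀ x ∈ A, x ≠ 1 → χ x = c) : (Nat.card A : ℤ) ∣ (charDegree χ : ℤ) - c := by
  obtain ⟨m, hm⟩ := Cfsg.Agent.Lib.Helper24.sum_subgroup_conj_nat A hχ
  rw [sum_subgroup_of_const A (fun x => conj (χ x)) (c : ℂ)
    (fun x hx hx1 => by simp only [h x hx hx1, map_intCast]),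
    ← Cfsg.Agent.Lib.Helper24.charDegree_cast hχ, Complex.conj_natCast] at hm
  refine ⟨(m : ℤ) - c, ?_⟩
  have : ((charDegree χ : ℤ) - c : ℂ) = (Nat.card A : ℂ) * ((m : ℂ) - c) := by
    linear_combination hm
  exact_mod_cast this

/-- The value of a character at an involution is an integer. -/
theorem exists_int_of_orderOf_two {χ : G → ℂ} (hχ : IsCharacter G χ) {z : G}
    (hz : orderOf z = 2) : ∃ n : ℤ, χ z = n := by
  obtain ⟨m, hm⟩ := Cfsg.Agent.Lib.Helper24.sum_subgroup_conj_nat (Subgroup.zpowers z) hχ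
  have hmem : ∀ x ∈ Subgroup.zpowers z, x ≠ 1 → x = z := by
    intro x hx hx1
    obtain ⟨k, rfl⟩ := Subgroup.mem_zpowers_iff.mp hx
    have hzz : z ^ (2 : ℤ) = 1 := by
      have := pow_orderOf_eq_one z
      rw [hz] at this
      exact_mod_cast this
    rcases Int.even_or_odd' k with ⟨j, rfl | rfl⟩
    · exfalso; apply hx1
      rw [zpow_mul, hzz, one_zpow]
    · rw [zpow_add, zpow_mul, hzz, one_zpow, one_mul, zpow_one]
  rw [sum_subgroup_of_const (Subgroup.zpowers z) (fun x => conj (χ x)) (conj (χ z))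
    (fun x hx hx1 => by simp only [hmem x hx hx1]),
    ← Cfsg.Agent.Lib.Helper24.charDegree_cast hχ, Complex.conj_natCast, Nat.card_zpowers, hz] at hm
  refine ⟨2 * (m : ℤ) - charDegree χ, ?_⟩
  have h1 : conj (χ z) = ((2 * (m : ℤ) - charDegree χ : ℤ) : ℂ) := by
    push_cast
    push_cast at hm
    linear_combination hm
  have h2 := congrArg conj h1
  rw [Complex.conj_conj, map_intCast] at h2
  exact h2

end

end Cfsg.Agent.Lib.Helper6
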