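import Mathlib
import Cfsg.Prelude.Def_Blocks
import Cfsg.Agent.Lib.Helper6.BlockOrth
import Cfsg.Agent.Lib.Helper6.NilClass2

/-!
# Groups with a self-centralizing normal `p`-subgroup have a single block
-/

set_option autoImplicit false

namespace Cfsg.Agent.Lib.Helper6

open Cfsg Cfsg.Agent.Lib.Helper2
open scoped ComplexConjugate Classical

attribute [local instance] irrFintype

section

variable {G : Type*} [Group G] [Fintype G] {M : Ideal AlgInt} {p : ℕ}

/-- The block idempotent acts on every irreducible character as its coefficient at `1`, modulo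
the local ideal, when `C_G(P) ≤ P` for a normal `p`-subgroup `P`. -/
theorem indicator_sub_coef_one_memLocalIdeal (hM : IsPModular p M) (P : Subgroup G) [P.Normal]
    (hP : IsPGroup p P) (hC : Subgroup.centralizer (P : Set G) ≤ P)
    {B : Set (IrrCharacter G)} (hB : IsPBlock M B) (χ : IrrCharacter G) :
    MemLocalIdeal M (B.indicator 1 χ - coef (B.indicator 1) 1) := by
  have := IsPModular.isPrime hM
  have hp : p.Prime := hM.1
  have : Fact p.Prime := ⟨hp⟩
  have h1 := om_coef (B.indicator 1) χ
  rw [om_eq_sum_classes (irr_isClassFunction χ.2) (isClassFunction_coef _)] at h1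
  rw [← h1, ← Finset.sum_erase_add _ _ (Finset.mem_univ (ConjClasses.mk (1 : G)))]
  have hout : Quotient.out (ConjClasses.mk (1 : G)) = 1 := by
    have h2 : ConjClasses.mk (Quotient.out (ConjClasses.mk (1 : G))) = ConjClasses.mk 1 :=
      Quotient.out_eq _
    have h3 := ConjClasses.mk_eq_mk_iff_isConj.mp h2
    exact isConj_one_left.mp h3
  rw [hout, centralChar_one (irr_one_ne_zero χ.2), mul_one, add_sub_cancel_right]
  refine MemLocalIdeal.sum _ fun C hC' => ?_
  have hC1 : Quotient.out C ≠ 1 := by
    intro h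
    apply (Finset.mem_erase.mp hC').1
    rw [← Quotient.out_eq C, h]
    rfl
  by_cases hd : p ∣ orderOf (Quotient.out C)
  · rw [coef_indicator_eq_zero hM hB hd, zero_mul]
    exact memLocalIdeal_zero
  · refine MemLocalIdeal.mul_left (IsPBlock.indicator_mem_ZS hB _) ?_
    apply centralChar_memLocalIdeal_of_not_mem_centralizer hM P hP _ χ.2
    intro hmem
    have h2 : Quotient.out C ∈ P := hC hmem
    obtain ⟨k, hk⟩ := hP ⟨_, h2⟩
    have h3 : (Quotient.out C) ^ p ^ k = 1 := congrArg Subtype.val hk
    obtain ⟨j, -, hj⟩ := (Nat.dvd_prime_pow hp).mp (orderOf_dvd_of_pow_eq_one h3)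
    rcases Nat.eq_zero_or_pos j with rfl | hj0
    · rw [pow_zero, orderOf_eq_one_iff] at hj
      exact hC1 hj
    · apply hd
      rw [hj]
      exact dvd_pow_self p hj0.ne'

theorem sameBlock_of_centralizer_le (hM : IsPModular p M) (P : Subgroup G) [P.Normal]
    (hP : IsPGroup p P) (hC : Subgroup.centralizer (P : Set G) ≤ P) (χ ψ : IrrCharacter G) :
    SameBlock M (χ : G → ℂ) (ψ : G → ℂ) := by
  have := IsPModular.isPrime hM
  have hB : IsPBlock M (blockOf M (χ : G → ℂ)) := ⟨χ, rfl⟩
  have h1 := indicator_sub_coef_one_memLocalIdeal hM P hP hC hB χ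
  have h2 := indicator_sub_coef_one_memLocalIdeal hM P hP hC hB ψ
  have h3 := MemLocalIdeal.sub h1 h2
  rw [sub_sub_sub_cancel_right, Set.indicator_of_mem (mem_blockOf_self χ), Pi.one_apply] at h3
  by_contra hcon
  have h4 : ψ ∉ blockOf M (χ : G → ℂ) := hcon
  rw [Set.indicator_of_notMem h4, sub_zero] at h3
  exact not_memLocalIdeal_one h3

end

end Cfsg.Agent.Lib.Helper6
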