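import Mathlib
import Cfsg.Prelude.Def_Blocks
import Cfsg.Agent.Lib.Helper6.Cover
import Cfsg.Agent.Lib.Helper6.BlockOrth
import Cfsg.Agent.Lib.Helper6.FirstMain
import Cfsg.Agent.Lib.Helper2.Clifford

/-!
# Blocks and normal subgroups: covering
-/

set_option autoImplicit false
set_option linter.unusedSectionVars false

namespace Cfsg.Agent.Lib.Helper6

open Cfsg Cfsg.Agent.Lib.Helper2
open scoped ComplexConjugate Classical

attribute [local instance] irrFintype

section

variable {G : Type*} [Group G] [Fintype G] (N : Subgroup G) [hN : N.Normal] [Fintype N]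
  {M : Ideal AlgInt} {p : ℕ}

/-- The conjugation action of `G` on the irreducible characters of a normal subgroup. -/
noncomputable def conjIrr (g : G) (θ : IrrCharacter N) : IrrCharacter N :=
  ⟨conjFun N g θ, IsIrrCharacter.conjFun N θ.2 g⟩

theorem conjIrr_coe (g : G) (θ : IrrCharacter N) :
    ((conjIrr N g θ : IrrCharacter N) : N → ℂ) = conjFun N g θ := rfl

theorem conjIrr_one (θ : IrrCharacter N) : conjIrr N 1 θ = θ :=
  Subtype.ext (conjFun_one N _)

theorem conjIrr_mul (g h : G) (θ : IrrCharacter N) :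
    conjIrr N (g * h) θ = conjIrr N g (conjIrr N h θ) :=
  Subtype.ext (conjFun_mul N g h _)

/-- Conjugation as a permutation of the irreducible characters. -/
noncomputable def conjIrrEquiv (g : G) : IrrCharacter N ≃ IrrCharacter N where
  toFun := conjIrr N g
  invFun := conjIrr N g⁻¹
  left_inv θ := by rw [← conjIrr_mul, inv_mul_cancel, conjIrr_one]
  right_inv θ := by rw [← conjIrr_mul, mul_inv_cancel, conjIrr_one]

theorem conjFun_one_apply (g : G) (θ : N → ℂ) : conjFun N g θ 1 = θ 1 := by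
  rw [conjFun_apply]
  congr 1
  apply Subtype.ext
  simp

theorem coef_comp_conjIrr (a : IrrCharacter N → ℂ) (g : G) :
    coef (fun θ => a (conjIrr N g θ)) = conjFun N g⁻¹ (coef a) := by
  funext n
  rw [conjFun_apply, coef_apply, coef_apply]
  congr 1
  refine Fintype.sum_equiv (conjIrrEquiv N g) _ _ fun θ => ?_
  show a (conjIrr N g θ) * _ = a (conjIrr N g θ) *
    ((conjIrr N g θ : N → ℂ) 1 * conj ((conjIrr N g θ : N → ℂ) _))
  congr 1
  rw [conjIrr_coe, conjFun_one_apply, conjFun_apply]
  congr 3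
  apply congrArg
  apply Subtype.ext
  simp [mul_assoc]

/-- The extension by zero of the central element with `G`-invariant coordinates `a`. -/
theorem isClassFunction_extend_coef {a : IrrCharacter N → ℂ}
    (ha : ∀ g θ, a (conjIrr N g θ) = a θ) : IsClassFunction G (extendByZero N (coef a)) := by
  intro x g
  by_cases hx : x ∈ N
  · have hx' : g * x * g⁻¹ ∈ N := hN.conj_mem x hx g
    rw [extendByZero_mem N _ hx, extendByZero_mem N _ hx']
    have h1 := congrFun (coef_comp_conjIrr N a g) ⟨x, hx⟩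
    simp only [ha] at h1
    rw [h1, conjFun_apply]
    congr 1
    apply Subtype.ext
    simp
  · have hx' : g * x * g⁻¹ ∉ N := by
      intro h
      apply hx
      have := hN.conj_mem _ h g⁻¹
      simpa [mul_assoc] using this
    rw [extendByZero_not_mem N _ hx, extendByZero_not_mem N _ hx']

theorem res_extend (f : N → ℂ) : (fun n : N => extendByZero N f n) = f := by
  funext n
  exact extendByZero_coe N f n

/-- The central element with `G`-invariant coordinates `a` acts on `χ` as `a θ` for every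
constituent `θ` of the restriction of `χ`. -/
theorem om_extend_coef {a : IrrCharacter N → ℂ} (ha : ∀ g θ, a (conjIrr N g θ) = a θ)
    {χ : G → ℂ} (hχ : IsIrrCharacter G χ) (θ : IrrCharacter N)
    (h : classInner (fun n : N => χ n) (θ : N → ℂ) ≠ 0) :
    om χ (extendByZero N (coef a)) = a θ := by
  rw [om_eq_om_of_constituent N (isClassFunction_extend_coef N ha)
    (fun g hg => extendByZero_not_mem N _ hg) hχ θ h, res_extend, om_coef]

theorem apply_eq_sum_classes {a : IrrCharacter N → ℂ} (ha : ∀ g θ, a (conjIrr N g θ) = a θ)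
    (θ : IrrCharacter N) :
    a θ = ∑ C : ConjClasses G, extendByZero N (coef a) (Quotient.out C) *
      inducedCentralChar N (θ : N → ℂ) (Quotient.out C) := by
  rw [← om_res_eq_sum_classes N (θ : N → ℂ) (isClassFunction_extend_coef N ha), res_extend,
    om_coef]

/-- **Clifford, central character form** (one direction). -/
theorem centralChar_eq_of_constituent {χ : G → ℂ} (hχ : IsIrrCharacter G χ) (θ : IrrCharacter N)
    (h : classInner (fun n : N => χ n) (θ : N → ℂ) ≠ 0) (n : N) :
    centralChar χ (n : G) = inducedCentralChar N (θ : N → ℂ) (n : G) := by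
  rw [inducedCentralChar_eq_om, ← om_classInd (irr_isClassFunction hχ)]
  apply om_eq_om_of_constituent N (isClassFunction_classInd _) _ hχ θ h
  intro g hg
  rw [classInd_apply, if_neg]
  intro hc
  obtain ⟨t, ht⟩ := isConj_iff.mp hc
  apply hg
  rw [← ht]
  exact hN.conj_mem _ n.2 t

theorem classInner_conjIrr {χ : G → ℂ} (hχ : IsClassFunction G χ) (θ : IrrCharacter N) (g : G) :
    classInner (fun n : N => χ n) (conjIrr N g θ : N → ℂ) =
      classInner (fun n : N => χ n) (θ : N → ℂ) :=
  classInner_restrict_conjFun N hχ _ g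

/-- The `G`-stable set of characters having a conjugate in `b`. -/
def orbSet (b : Set (IrrCharacter N)) : Set (IrrCharacter N) := {ψ | ∃ g : G, conjIrr N g ψ ∈ b}

theorem orbSet_indicator_conj (b : Set (IrrCharacter N)) (g : G) (θ : IrrCharacter N) :
    ((orbSet N b).indicator 1 (conjIrr N g θ) : ℂ) = (orbSet N b).indicator 1 θ := by
  have : conjIrr N g θ ∈ orbSet N b ↔ θ ∈ orbSet N b := by
    constructor
    · rintro ⟨t, ht⟩
      exact ⟨t * g, by rw [conjIrr_mul]; exact ht⟩
    · rintro ⟨t, ht⟩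
      refine ⟨t * g⁻¹, ?_⟩
      rw [conjIrr_mul, ← conjIrr_mul N g⁻¹ g, inv_mul_cancel, conjIrr_one]
      exact ht
  by_cases h : θ ∈ orbSet N b
  · rw [Set.indicator_of_mem h, Set.indicator_of_mem (this.mpr h), Pi.one_apply, Pi.one_apply]
  · rw [Set.indicator_of_notMem h, Set.indicator_of_notMem (fun h' => h (this.mp h'))]

theorem orbSet_indicator_eq (b : Set (IrrCharacter N)) :
    ((orbSet N b).indicator 1 : IrrCharacter N → ℂ) =
      1 - ∏ g : G, (1 - fun θ => b.indicator 1 (conjIrr N g θ)) := by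
  funext θ
  simp only [Pi.sub_apply, Pi.one_apply, Finset.prod_apply]
  by_cases h : θ ∈ orbSet N b
  · rw [Set.indicator_of_mem h, Pi.one_apply]
    obtain ⟨g, hg⟩ := h
    rw [Finset.prod_eq_zero (Finset.mem_univ g), sub_zero]
    rw [Set.indicator_of_mem hg, Pi.one_apply, sub_self]
  · rw [Set.indicator_of_notMem h, Finset.prod_eq_one, sub_self]
    intro g _
    rw [Set.indicator_of_notMem (fun hg => h ⟨g, hg⟩), sub_zero]

theorem orbSet_indicator_mem_ZS [M.IsPrime] {b : Set (IrrCharacter N)} (hb : IsPBlock M b) :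
    ((orbSet N b).indicator 1 : IrrCharacter N → ℂ) ∈ ZS M N := by
  rw [orbSet_indicator_eq]
  refine Subring.sub_mem _ (Subring.one_mem _) (Subring.prod_mem _ fun g _ => ?_)
  refine Subring.sub_mem _ (Subring.one_mem _) ?_
  rw [mem_ZS]
  intro n
  rw [coef_comp_conjIrr, conjFun_apply]
  exact IsPBlock.indicator_mem_ZS hb _

/-- Characters of `N` with congruent induced central characters lie in conjugate blocks. -/
theorem mem_orbSet_of_congr [M.IsPrime] {b : Set (IrrCharacter N)} (hb : IsPBlock M b)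
    {θ ψ : IrrCharacter N} (hθ : θ ∈ b)
    (h : ∀ n : N, MemLocalIdeal M (inducedCentralChar N (ψ : N → ℂ) (n : G) -
      inducedCentralChar N (θ : N → ℂ) (n : G))) : ψ ∈ orbSet N b := by
  by_contra hcon
  have hθ' : θ ∈ orbSet N b := ⟨1, by rw [conjIrr_one]; exact hθ⟩
  have h1 := apply_eq_sum_classes N (orbSet_indicator_conj N b) θ
  have h2 := apply_eq_sum_classes N (orbSet_indicator_conj N b) ψ
  rw [Set.indicator_of_mem hθ', Pi.one_apply] at h1
  rw [Set.indicator_of_notMem hcon] at h2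
  have h3 : MemLocalIdeal M ((0 : ℂ) - 1) := by
    rw [h1, h2, ← Finset.sum_sub_distrib]
    refine MemLocalIdeal.sum _ fun C _ => ?_
    rw [← mul_sub]
    by_cases hC : Quotient.out C ∈ N
    · refine MemLocalIdeal.mul_left ?_ (h ⟨_, hC⟩)
      rw [extendByZero_mem N _ hC]
      exact orbSet_indicator_mem_ZS N hb _
    · rw [extendByZero_not_mem N _ hC, zero_mul]
      exact memLocalIdeal_zero
  have h4 := MemLocalIdeal.neg h3
  rw [zero_sub, neg_neg] at h4
  exact not_memLocalIdeal_one h4

theorem inducedCentralChar_sub_memLocalIdeal [M.IsPrime] {θ θ' : IrrCharacter N}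
    (h : SameBlock M (θ : N → ℂ) (θ' : N → ℂ)) (g : G) :
    MemLocalIdeal M (inducedCentralChar N (θ : N → ℂ) g - inducedCentralChar N (θ' : N → ℂ) g) := by
  rw [inducedCentralChar_eq_om, inducedCentralChar_eq_om]
  apply om_sub_memLocalIdeal θ.2 θ'.2 h (isClassFunction_res N (isClassFunction_classInd g))
  intro n
  exact memLocalRing_classInd _ _

/-- `B` covers `b`. -/
def Covers (B : Set (IrrCharacter G)) (b : Set (IrrCharacter N)) : Prop :=
  ∃ χ ∈ B, ∃ θ ∈ b, classInner (fun n : N => (χ : G → ℂ) n) (θ : N → ℂ) ≠ 0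

theorem Covers.congr [M.IsPrime] {B : Set (IrrCharacter G)} (hB : IsPBlock M B)
    {b : Set (IrrCharacter N)} (hb : IsPBlock M b) (h : Covers N B b) :
    ∀ χ ∈ B, ∀ θ ∈ b, ∀ n : N, MemLocalIdeal M (centralChar (χ : G → ℂ) (n : G) -
      inducedCentralChar N (θ : N → ℂ) (n : G)) := by
  obtain ⟨χ₀, hχ₀, θ₀, hθ₀, h0⟩ := h
  intro χ hχ θ hθ n
  have h1 := centralChar_eq_of_constituent N χ₀.2 θ₀ h0 n
  have h2 : MemLocalIdeal M (centralChar (χ : G → ℂ) (n : G) - centralChar (χ₀ : G → ℂ) (n : G)) :=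
    IsPBlock.sameBlock hB hχ hχ₀ n
  have h3 := inducedCentralChar_sub_memLocalIdeal N (IsPBlock.sameBlock hb hθ₀ hθ) (n : G)
  have h4 := MemLocalIdeal.add h2 h3
  rw [h1] at h4
  convert h4 using 1
  ring

theorem covers_of_congr [M.IsPrime] {B : Set (IrrCharacter G)} (hB : IsPBlock M B)
    {b : Set (IrrCharacter N)} (hb : IsPBlock M b)
    (h : ∀ χ ∈ B, ∀ θ ∈ b, ∀ n : N, MemLocalIdeal M (centralChar (χ : G → ℂ) (n : G) -
      inducedCentralChar N (θ : N → ℂ) (n : G))) : Covers N B b := by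
  obtain ⟨χ, hχ⟩ := IsPBlock.nonempty hB
  obtain ⟨θ, hθ⟩ := IsPBlock.nonempty hb
  obtain ⟨θ', hθ'⟩ := exists_constituent N χ.2
  have h1 : θ' ∈ orbSet N b := by
    apply mem_orbSet_of_congr N hb hθ
    intro n
    rw [← centralChar_eq_of_constituent N χ.2 θ' hθ' n]
    exact h χ hχ θ hθ n
  obtain ⟨g, hg⟩ := h1
  refine ⟨χ, hχ, conjIrr N g θ', hg, ?_⟩
  rw [classInner_conjIrr N (irr_isClassFunction χ.2)]
  exact hθ'

theorem Covers.mem_orbSet [M.IsPrime] {B : Set (IrrCharacter G)} (hB : IsPBlock M B)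
    {b : Set (IrrCharacter N)} (hb : IsPBlock M b) (h : Covers N B b)
    {χ' : IrrCharacter G} (hχ' : χ' ∈ B) {ψ : IrrCharacter N}
    (hψ : classInner (fun n : N => (χ' : G → ℂ) n) (ψ : N → ℂ) ≠ 0) : ψ ∈ orbSet N b := by
  obtain ⟨θ, hθ⟩ := IsPBlock.nonempty hb
  apply mem_orbSet_of_congr N hb hθ
  intro n
  rw [← centralChar_eq_of_constituent N χ'.2 ψ hψ n]
  exact h.congr N hB hb χ' hχ' θ hθ n

end

end Cfsg.Agent.Lib.Helper6
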