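import Mathlib
import Cfsg.Prelude.Def_Blocks
import Cfsg.Agent.Lib.Helper6.Cover2
import Cfsg.Agent.Lib.Helper6.NormalIdem

/-!
# Covering blocks: normal subgroups of `p`-power index and normal `p'`-subgroups
-/

set_option autoImplicit false
set_option linter.unusedSectionVars false

namespace Cfsg.Agent.Lib.Helper6

open Cfsg Cfsg.Agent.Lib.Helper2
open scoped ComplexConjugate Classical

attribute [local instance] irrFintype

section

variable {G : Type*} [Group G] [Fintype G] (N : Subgroup G) [hN : N.Normal] [Fintype N]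
  {M : Ideal AlgInt} {p : ℕ}

omit hN in
/-- Every irreducible character of a subgroup lies under an irreducible character of `G`. -/
theorem exists_irr_above (θ : IrrCharacter N) :
    ∃ χ : IrrCharacter G, classInner (fun n : N => (χ : G → ℂ) n) (θ : N → ℂ) ≠ 0 := by
  by_contra hcon
  push Not at hcon
  have h1 : ∀ χ : IrrCharacter G, classInner (indFun N (θ : N → ℂ)) (χ : G → ℂ) = 0 := by
    intro χ
    rw [frobenius_reciprocity N _ _ (irr_isClassFunction χ.2), ← classInner_conj_symm, hcon χ,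
      map_zero]
  have h2 := congrFun (classFunction_eq_sum (indFun_isClassFunction N (θ : N → ℂ))) 1
  simp only [h1, zero_smul, Finset.sum_const_zero, Pi.zero_apply] at h2
  rw [indFun_one] at h2
  have hG0 : (Nat.card G : ℂ) ≠ 0 := by exact_mod_cast (Nat.card_pos (α := G)).ne'
  have hN0 : (Nat.card N : ℂ) ≠ 0 := by exact_mod_cast (Nat.card_pos (α := N)).ne'
  exact mul_ne_zero (div_ne_zero hG0 hN0) (irr_one_ne_zero θ.2) h2

theorem exists_covers [M.IsPrime] {b : Set (IrrCharacter N)} (hb : IsPBlock M b) :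
    ∃ B : Set (IrrCharacter G), IsPBlock M B ∧ Covers N B b := by
  obtain ⟨θ, hθ⟩ := IsPBlock.nonempty hb
  obtain ⟨χ, hχ⟩ := exists_irr_above N θ
  exact ⟨blockOf M (χ : G → ℂ), ⟨χ, rfl⟩, χ, mem_blockOf_self χ, θ, hθ, hχ⟩

/-- If all `p`-regular elements lie in `N`, at most one block of `G` covers a given block. -/
theorem covers_unique (hM : IsPModular p M) (hreg : ∀ g : G, ¬ p ∣ orderOf g → g ∈ N)
    {b : Set (IrrCharacter N)} (hb : IsPBlock M b) {B B' : Set (IrrCharacter G)}
    (hB : IsPBlock M B) (hB' : IsPBlock M B') (h : Covers N B b) (h' : Covers N B' b) :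
    B = B' := by
  have := IsPModular.isPrime hM
  obtain ⟨χ, hχ⟩ := IsPBlock.nonempty hB
  obtain ⟨χ', hχ'⟩ := IsPBlock.nonempty hB'
  obtain ⟨θ, hθ⟩ := IsPBlock.nonempty hb
  have hcl : IsClassFunction G (coef (B.indicator 1)) := isClassFunction_coef _
  have h1 := om_coef (B.indicator 1) χ
  have h2 := om_coef (B.indicator 1) χ'
  rw [om_eq_sum_classes (irr_isClassFunction χ.2) hcl, Set.indicator_of_mem hχ,
    Pi.one_apply] at h1
  rw [om_eq_sum_classes (irr_isClassFunction χ'.2) hcl] at h2
  have h3 : MemLocalIdeal M ((1 : ℂ) - B.indicator 1 χ') := by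
    rw [← h1, ← h2, ← Finset.sum_sub_distrib]
    refine MemLocalIdeal.sum _ fun C _ => ?_
    rw [← mul_sub]
    by_cases hC : Quotient.out C ∈ N
    · refine MemLocalIdeal.mul_left (IsPBlock.indicator_mem_ZS hB _) ?_
      have e1 := h.congr N hB hb χ hχ θ hθ ⟨_, hC⟩
      have e2 := h'.congr N hB' hb χ' hχ' θ hθ ⟨_, hC⟩
      have e3 := MemLocalIdeal.sub e1 e2
      convert e3 using 1
      ring
    · rw [coef_indicator_eq_zero hM hB (by
        by_contra hd
        exact hC (hreg _ hd)), zero_mul]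
      exact memLocalIdeal_zero
  have h4 : χ' ∈ B := by
    by_contra hcon
    rw [Set.indicator_of_notMem hcon, sub_zero] at h3
    exact not_memLocalIdeal_one h3
  exact IsPBlock.eq_of_mem_of_mem hB hB' h4 hχ'

end

section

variable {G : Type*} [Group G] [Fintype G] {M : Ideal AlgInt} {p : ℕ}

/-- In a `p'`-group, blocks are singletons. -/
theorem eq_of_sameBlock_of_not_dvd (hM : IsPModular p M) (hG : ¬ p ∣ Nat.card G)
    {θ θ' : IrrCharacter G} (h : SameBlock M (θ : G → ℂ) (θ' : G → ℂ)) : θ = θ' := by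
  have := IsPModular.isPrime hM
  by_contra hne
  have hS : ∀ g, MemLocalRing M (coef (({θ} : Set (IrrCharacter G)).indicator 1) g) := by
    intro g
    rw [coef_apply]
    refine MemLocalRing.mul (memLocalRing_inv_natCast hM hG) (MemLocalRing.sum _ fun χ _ => ?_)
    refine MemLocalRing.mul ?_ (MemLocalRing.mul ?_ ?_)
    · by_cases hχ : χ ∈ ({θ} : Set (IrrCharacter G))
      · rw [Set.indicator_of_mem hχ]; exact memLocalRing_one
      · rw [Set.indicator_of_notMem hχ]; exact memLocalRing_zero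
    · exact memLocalRing_of_isIntegral
        (Cfsg.Agent.Lib.Helper24.char_isIntegral (IsIrrCharacter.isCharacter χ.2) 1)
    · apply memLocalRing_of_isIntegral
      have h1 := Cfsg.Agent.Lib.Helper24.char_isIntegral (IsIrrCharacter.isCharacter χ.2) g
      exact h1.map (starRingEnd ℂ).toIntAlgHom
  have h1 := om_sub_memLocalIdeal θ.2 θ'.2 h (isClassFunction_coef _) hS
  rw [om_coef, om_coef, Set.indicator_of_mem (Set.mem_singleton θ),
    Set.indicator_of_notMem (fun h' => hne (Set.mem_singleton_iff.mp h').symm), Pi.one_apply,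
    sub_zero] at h1
  exact not_memLocalIdeal_one h1

/-- Characters in the same block lie over the same characters of a normal `p'`-subgroup. -/
theorem constituent_of_sameBlock (hM : IsPModular p M) (N : Subgroup G) [hN : N.Normal]
    [Fintype N] (hNp : ¬ p ∣ Nat.card N) {χ ψ : IrrCharacter G}
    (h : SameBlock M (χ : G → ℂ) (ψ : G → ℂ)) (θ : IrrCharacter N)
    (hθ : classInner (fun n : N => (χ : G → ℂ) n) (θ : N → ℂ) ≠ 0) :
    classInner (fun n : N => (ψ : G → ℂ) n) (θ : N → ℂ) ≠ 0 := by
  have := IsPModular.isPrime hM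
  obtain ⟨η, hη⟩ := exists_constituent N ψ.2
  have hB : IsPBlock M (blockOf M (χ : G → ℂ)) := ⟨χ, rfl⟩
  have hb : IsPBlock M (blockOf M (θ : N → ℂ)) := ⟨θ, rfl⟩
  obtain ⟨g, hg⟩ := Covers.mem_orbSet N hB hb
    ⟨χ, mem_blockOf_self χ, θ, mem_blockOf_self θ, hθ⟩ (χ' := ψ) h hη
  have h1 : θ = conjIrr N g η := eq_of_sameBlock_of_not_dvd hM hNp hg
  rw [h1, classInner_conjIrr N (irr_isClassFunction ψ.2)]
  exact hη

end

end Cfsg.Agent.Lib.Helper6
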