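import Mathlib
import Cfsg.Prelude.Def_Blocks
import Cfsg.Agent.Lib.Helper6.NormalIdem
import Cfsg.Agent.Lib.Helper2.Inflation

/-!
# Blocks and inflation from quotient groups
-/

set_option autoImplicit false
set_option linter.unusedSectionVars false

namespace Cfsg.Agent.Lib.Helper6

open Cfsg Cfsg.Agent.Lib.Helper2
open scoped ComplexConjugate Classical

attribute [local instance] irrFintype

section

variable {G : Type*} [Group G] [Fintype G] (N : Subgroup G) [N.Normal] [Fintype (G ⧸ N)]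
  {M : Ideal AlgInt} {p : ℕ}

/-- Inflation of a function. -/
def infl (χ : G ⧸ N → ℂ) : G → ℂ := fun g => χ (g : G ⧸ N)

theorem infl_apply (χ : G ⧸ N → ℂ) (g : G) : infl N χ g = χ (g : G ⧸ N) := rfl

theorem infl_eq_comp (χ : G ⧸ N → ℂ) : infl N χ = χ ∘ QuotientGroup.mk := rfl

theorem isIrrCharacter_infl {χ : G ⧸ N → ℂ} (hχ : IsIrrCharacter (G ⧸ N) χ) :
    IsIrrCharacter G (infl N χ) := IsIrrCharacter.inflate N hχ

theorem isClassFunction_infl {F : G ⧸ N → ℂ} (hF : IsClassFunction (G ⧸ N) F) :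
    IsClassFunction G (infl N F) := by
  intro g h
  exact hF (g : G ⧸ N) (h : G ⧸ N)

theorem om_infl_infl (χ F : G ⧸ N → ℂ) :
    om (infl N χ) (fun g => (Nat.card N : ℂ)⁻¹ * infl N F g) = om χ F := by
  have hN0 : (Nat.card N : ℂ) ≠ 0 := by exact_mod_cast (Nat.card_pos (α := N)).ne'
  unfold om
  have h1 : infl N χ 1 = χ 1 := rfl
  rw [h1]
  congr 1
  have h2 := sum_comp_mk N (fun q => (Nat.card N : ℂ)⁻¹ * F q * χ q)
  rw [nsmul_eq_mul] at h2
  have h3 : ∑ g : G, (Nat.card N : ℂ)⁻¹ * infl N F g * infl N χ g =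
      ∑ g : G, (Nat.card N : ℂ)⁻¹ * F (g : G ⧸ N) * χ (g : G ⧸ N) := rfl
  rw [h3, h2, Finset.mul_sum]
  refine Finset.sum_congr rfl fun q _ => ?_
  field_simp

/-- For a normal `p'`-subgroup, characters of the quotient whose inflations lie in the same block
lie in the same block. -/
theorem sameBlock_of_infl (hM : IsPModular p M) (hN : ¬ p ∣ Nat.card N) {χ ψ : G ⧸ N → ℂ}
    (hχ : IsIrrCharacter (G ⧸ N) χ) (hψ : IsIrrCharacter (G ⧸ N) ψ)
    (h : SameBlock M (infl N χ) (infl N ψ)) : SameBlock M χ ψ := by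
  have := IsPModular.isPrime hM
  intro q
  rw [← om_classInd (irr_isClassFunction hχ), ← om_classInd (irr_isClassFunction hψ),
    ← om_infl_infl N χ, ← om_infl_infl N ψ]
  apply om_sub_memLocalIdeal (isIrrCharacter_infl N hχ) (isIrrCharacter_infl N hψ) h
  · intro g t
    have := isClassFunction_infl N (isClassFunction_classInd q) g t
    simp only [this]
  · intro g
    exact MemLocalRing.mul (memLocalRing_inv_natCast hM hN) (memLocalRing_classInd _ _)

/-- Push-forward of a function to the quotient. -/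
noncomputable def push (F : G → ℂ) : G ⧸ N → ℂ :=
  fun q => ∑ x : G, if (x : G ⧸ N) = q then F x else 0

theorem push_apply (F : G → ℂ) (q : G ⧸ N) :
    push N F q = ∑ x : G, if (x : G ⧸ N) = q then F x else 0 := rfl

theorem isClassFunction_push {F : G → ℂ} (hF : IsClassFunction G F) :
    IsClassFunction (G ⧸ N) (push N F) := by
  intro q t
  obtain ⟨s, rfl⟩ := QuotientGroup.mk_surjective t
  rw [push_apply, push_apply]
  symm
  refine Fintype.sum_equiv (MulAut.conj s).toEquiv _ _ fun x => ?_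
  have h1 : ((MulAut.conj s).toEquiv x : G) = s * x * s⁻¹ := rfl
  rw [h1, hF x s]
  have h2 : ((s * x * s⁻¹ : G) : G ⧸ N) = (s : G ⧸ N) * q * (s : G ⧸ N)⁻¹ ↔ (x : G ⧸ N) = q := by
    rw [QuotientGroup.mk_mul, QuotientGroup.mk_mul, QuotientGroup.mk_inv]
    constructor
    · intro h
      exact mul_left_cancel (mul_right_cancel h)
    · intro h; rw [h]
  simp only [h2]

theorem sum_mul_infl (F : G → ℂ) (χ : G ⧸ N → ℂ) :
    ∑ g : G, F g * infl N χ g = ∑ q : G ⧸ N, push N F q * χ q := by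
  simp only [push_apply, Finset.sum_mul]
  rw [Finset.sum_comm]
  refine Finset.sum_congr rfl fun g _ => ?_
  rw [Finset.sum_eq_single (g : G ⧸ N)]
  · rw [if_pos rfl]; rfl
  · intro q _ hq
    rw [if_neg (Ne.symm hq), zero_mul]
  · intro h; exact absurd (Finset.mem_univ _) h

theorem om_infl (F : G → ℂ) (χ : G ⧸ N → ℂ) : om (infl N χ) F = om χ (push N F) := by
  unfold om
  rw [sum_mul_infl]
  rfl

theorem memLocalRing_push [M.IsPrime] {F : G → ℂ} (hF : ∀ g, MemLocalRing M (F g)) (q : G ⧸ N) :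
    MemLocalRing M (push N F q) := by
  rw [push_apply]
  refine MemLocalRing.sum _ fun x _ => ?_
  split_ifs
  · exact hF x
  · exact memLocalRing_zero

/-- Inflations of characters in the same block lie in the same block. -/
theorem sameBlock_infl [M.IsPrime] {χ ψ : G ⧸ N → ℂ}
    (hχ : IsIrrCharacter (G ⧸ N) χ) (hψ : IsIrrCharacter (G ⧸ N) ψ)
    (h : SameBlock M χ ψ) : SameBlock M (infl N χ) (infl N ψ) := by
  intro g
  rw [← om_classInd (irr_isClassFunction (isIrrCharacter_infl N hχ)),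
    ← om_classInd (irr_isClassFunction (isIrrCharacter_infl N hψ)), om_infl, om_infl]
  exact om_sub_memLocalIdeal hχ hψ h (isClassFunction_push N (isClassFunction_classInd g))
    (memLocalRing_push N (memLocalRing_classInd g))

/-- Over a normal `p'`-subgroup, the block of an inflated character consists of inflated
characters. -/
theorem exists_infl_of_sameBlock (hM : IsPModular p M) (hN : ¬ p ∣ Nat.card N)
    (χ : IrrCharacter (G ⧸ N)) (ψ : IrrCharacter G)
    (h : SameBlock M (infl N (χ : G ⧸ N → ℂ)) (ψ : G → ℂ)) :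
    ∃ ψ' : IrrCharacter (G ⧸ N), (ψ : G → ℂ) = infl N (ψ' : G ⧸ N → ℂ) ∧
      SameBlock M (χ : G ⧸ N → ℂ) (ψ' : G ⧸ N → ℂ) := by
  have hker : ∀ n ∈ N, (ψ : G → ℂ) n = (ψ : G → ℂ) 1 := by
    apply ker_of_sameBlock hM N hN (isIrrCharacter_infl N χ.2) ψ.2 h
    intro n hn
    rw [infl_apply, infl_apply, (QuotientGroup.eq_one_iff n).mpr hn]
    rfl
  obtain ⟨ψ', hψ', hval⟩ := Cfsg.Agent.Lib.Helper24.IsIrrCharacter.deflate N ψ.2 hker
  have heq : (ψ : G → ℂ) = infl N ψ' := by
    funext g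
    exact (hval g).symm
  refine ⟨⟨ψ', hψ'⟩, heq, ?_⟩
  apply sameBlock_of_infl N hM hN χ.2 hψ'
  rw [← heq]
  exact h

end

end Cfsg.Agent.Lib.Helper6
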