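import Mathlib
import Cfsg.Prelude.Def_Blocks
import Cfsg.Agent.Lib.Helper6.RegSum
import Cfsg.Agent.Lib.Helper6.Brauer
import Cfsg.Agent.Lib.Helper6.Vanish

/-!
# The dimension of a block and Green's theorem on defect groups as Sylow intersections
-/

set_option autoImplicit false

namespace Cfsg.Agent.Lib.Helper6

open Cfsg Cfsg.Agent.Lib.Helper2 Cfsg.Agent.Lib.Helper24
open scoped ComplexConjugate Classical

attribute [local instance] irrFintype

section orbit

/-- Orbit counting: an invariant sum lies in an additive subgroup as soon as all the orbit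
contributions do. -/
theorem sum_mem_of_orbit {K Ω : Type*} [Group K] [MulAction K Ω] [Fintype Ω]
    (W : Ω → ℂ) (hW : ∀ (k : K) w, W (k • w) = W w)
    (A : AddSubgroup ℂ) (hA : ∀ w, (Nat.card (MulAction.orbit K w) : ℂ) * W w ∈ A) :
    ∑ w, W w ∈ A := by
  let r := MulAction.orbitRel K Ω
  have hrel : ∀ a b : Ω, r a b → W a = W b := by
    intro a b hab
    obtain ⟨k, rfl⟩ := hab
    exact hW k b
  have h1 : ∑ w, W w = ∑ b : Quotient r, ∑ w with (Quotient.mk r w) = b, W w :=
    (Finset.sum_fiberwise Finset.univ (fun w => Quotient.mk r w) W).symm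
  have h2 : ∀ b : Quotient r, ∑ w with (Quotient.mk r w) = b, W w =
      (Nat.card (MulAction.orbit K (Quotient.out b)) : ℂ) * W (Quotient.out b) := by
    intro b
    have h3 : ∀ w ∈ Finset.univ.filter (fun w => Quotient.mk r w = b), W w = W (Quotient.out b) := by
      intro w hw
      rw [Finset.mem_filter] at hw
      apply hrel
      apply Quotient.exact
      rw [hw.2, Quotient.out_eq]
    rw [Finset.sum_congr rfl h3, Finset.sum_const, nsmul_eq_mul]
    congr 2
    rw [Nat.card_eq_fintype_card, Fintype.card_subtype]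
    congr 1
    ext w
    simp only [Finset.mem_filter, Finset.mem_univ, true_and]
    constructor
    · intro hw
      have : r w (Quotient.out b) := by
        apply Quotient.exact
        rw [hw, Quotient.out_eq]
      exact this
    · intro hw
      have : Quotient.mk r w = Quotient.mk r (Quotient.out b) := Quotient.sound hw
      rw [this, Quotient.out_eq]
  rw [h1]
  refine A.sum_mem fun b _ => ?_
  rw [h2]
  exact hA _

end orbit

section pdivI

variable {M : Ideal AlgInt} [M.IsPrime] {p : ℕ}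

/-- The additive subgroup `p^n S`. -/
def pDivGroup (M : Ideal AlgInt) [M.IsPrime] (p n : ℕ) : AddSubgroup ℂ where
  carrier := {z | PDiv M p n z}
  add_mem' := PDiv.add
  zero_mem' := pDiv_zero n
  neg_mem' := PDiv.neg

/-- The additive subgroup `p^n 𝔭`. -/
def pDivIGroup (M : Ideal AlgInt) [M.IsPrime] (p n : ℕ) : AddSubgroup ℂ where
  carrier := {z | ∃ s, MemLocalIdeal M s ∧ z = (p : ℂ) ^ n * s}
  add_mem' := by
    rintro _ _ ⟨s, hs, rfl⟩ ⟨t, ht, rfl⟩
    exact ⟨s + t, MemLocalIdeal.add hs ht, by ring⟩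
  zero_mem' := ⟨0, memLocalIdeal_zero, by ring⟩
  neg_mem' := by
    rintro _ ⟨s, hs, rfl⟩
    exact ⟨-s, MemLocalIdeal.neg hs, by ring⟩

theorem mem_pDivGroup {n : ℕ} {z : ℂ} : z ∈ pDivGroup M p n ↔ PDiv M p n z := Iff.rfl

theorem mem_pDivIGroup {n : ℕ} {z : ℂ} :
    z ∈ pDivIGroup M p n ↔ ∃ s, MemLocalIdeal M s ∧ z = (p : ℂ) ^ n * s := Iff.rfl

theorem mem_pDivIGroup_of_pDiv (hM : IsPModular p M) {n k : ℕ} (hk : n < k) {z : ℂ}
    (hz : PDiv M p k z) : z ∈ pDivIGroup M p n := by
  obtain ⟨s, hs, rfl⟩ := hz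
  obtain ⟨c, rfl⟩ := Nat.exists_eq_add_of_lt hk
  refine ⟨(p : ℂ) ^ (c + 1) * s, ?_, by ring⟩
  rw [pow_succ, mul_assoc]
  exact MemLocalIdeal.mul_left (MemLocalRing.pow (memLocalRing_natCast p) c)
    (MemLocalIdeal.mul_right (memLocalIdeal_p hM) hs)

end pdivI

section dim

variable {G : Type*} [Group G] [Fintype G] {M : Ideal AlgInt} {p : ℕ}

theorem dvd_orderOf_of_mem_sylow [Fact p.Prime] (P : Sylow p G) {u : (P : Subgroup G)}
    (hu : u ≠ 1) : p ∣ orderOf (u : G) := by
  obtain ⟨k, hk⟩ := (IsPGroup.iff_orderOf.mp P.2) u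
  rw [Subgroup.orderOf_coe, hk]
  cases k with
  | zero =>
    rw [pow_zero, orderOf_eq_one_iff] at hk
    exact absurd hk hu
  | succ k => exact dvd_pow_self p (Nat.succ_ne_zero k)

theorem exists_sylow_mult [Fact p.Prime] (P : Sylow p G) :
    ∃ n : IrrCharacter G → ℕ, ∀ ψ : IrrCharacter G,
      ∑ u : (P : Subgroup G), (ψ : G → ℂ) u = (Nat.card (P : Subgroup G) : ℂ) * n ψ := by
  have hn : ∀ ψ : IrrCharacter G, ∃ n : ℕ,
      classInner (fun u : (P : Subgroup G) => (ψ : G → ℂ) u) (fun _ => 1) = n := fun ψ =>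
    IsCharacter.classInner_nat (IsCharacter.restrict _ (IsIrrCharacter.isCharacter ψ.2))
      (IsIrrCharacter.isCharacter isIrrCharacter_one)
  choose n hn using hn
  have hP0 : (Nat.card (P : Subgroup G) : ℂ) ≠ 0 := card_subgroup_ne_zero _
  refine ⟨n, fun ψ => ?_⟩
  rw [← hn ψ, classInner, ← mul_assoc, mul_inv_cancel₀ hP0, one_mul]
  simp

theorem one_eq_sum_om_creg [Fact p.Prime] (P : Sylow p G) {n : IrrCharacter G → ℕ}
    (hsum : ∀ ψ : IrrCharacter G,
      ∑ u : (P : Subgroup G), (ψ : G → ℂ) u = (Nat.card (P : Subgroup G) : ℂ) * n ψ)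
    (χ : IrrCharacter G) :
    (1 : ℂ) = ∑ ψ : IrrCharacter G, om (ψ : G → ℂ) (creg p (χ : G → ℂ)) *
      ((ψ : G → ℂ) 1 / (χ : G → ℂ) 1 *
        ((Nat.card (P : Subgroup G) : ℂ) / (Nat.card G : ℂ)) * n ψ) := by
  have hp : p.Prime := Fact.out
  have h1 : ∑ u : (P : Subgroup G), regPart p (χ : G → ℂ) u = (χ : G → ℂ) 1 := by
    rw [Finset.sum_eq_single (1 : (P : Subgroup G))]
    · rw [Subgroup.coe_one, regPart_of_not_dvd]
      rw [orderOf_one]
      exact hp.one_lt.ne' ∘ Nat.dvd_one.mp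
    · intro u _ hu
      exact regPart_of_dvd _ (dvd_orderOf_of_mem_sylow P hu)
    · intro h; exact absurd (Finset.mem_univ _) h
  have h2 : ∑ u : (P : Subgroup G), regPart p (χ : G → ℂ) u =
      ∑ ψ : IrrCharacter G, classInner (regPart p (χ : G → ℂ)) (ψ : G → ℂ) *
        ((Nat.card (P : Subgroup G) : ℂ) * n ψ) := by
    have h3 := classFunction_eq_sum (isClassFunction_regPart (p := p) (irr_isClassFunction χ.2))
    have h4 : ∀ u : (P : Subgroup G), regPart p (χ : G → ℂ) u =
        ∑ ψ : IrrCharacter G, classInner (regPart p (χ : G → ℂ)) (ψ : G → ℂ) * (ψ : G → ℂ) u := by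
      intro u
      conv_lhs => rw [h3]
      simp only [Finset.sum_apply, Pi.smul_apply, smul_eq_mul]
    simp_rw [h4]
    rw [Finset.sum_comm]
    refine Finset.sum_congr rfl fun ψ _ => ?_
    rw [← Finset.mul_sum, hsum]
  rw [h1] at h2
  have hχ1 := irr_one_ne_zero χ.2
  have hG0 : (Nat.card G : ℂ) ≠ 0 := card_ne_zero_complex
  have h6 : (1 : ℂ) = (∑ ψ : IrrCharacter G, classInner (regPart p (χ : G → ℂ)) (ψ : G → ℂ) *
      ((Nat.card (P : Subgroup G) : ℂ) * n ψ)) / (χ : G → ℂ) 1 := by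
    rw [← h2, div_self hχ1]
  rw [h6, Finset.sum_div]
  refine Finset.sum_congr rfl fun ψ _ => ?_
  rw [om_creg, classInner_regPart_symm]
  have hψ1 := irr_one_ne_zero ψ.2
  field_simp

theorem card_sylow_div_card_memLocalRing [Fact p.Prime] (hM : IsPModular p M) (P : Sylow p G) :
    MemLocalRing M ((Nat.card (P : Subgroup G) : ℂ) / (Nat.card G : ℂ)) := by
  apply memLocalRing_natCast_div hM Nat.card_pos.ne' Nat.card_pos.ne'
  rw [P.card_eq_multiplicity, Nat.factorization_pow, Finsupp.smul_apply,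
    Nat.Prime.factorization_self hM.1]
  simp

theorem coef_indicator_one_eq [Fact p.Prime] (hM : IsPModular p M) {B : Set (IrrCharacter G)}
    (hB : IsPBlock M B) (P : Sylow p G) {n : IrrCharacter G → ℕ}
    (hsum : ∀ ψ : IrrCharacter G,
      ∑ u : (P : Subgroup G), (ψ : G → ℂ) u = (Nat.card (P : Subgroup G) : ℂ) * n ψ) :
    coef (B.indicator 1) 1 = ∑ ψ : IrrCharacter G, B.indicator 1 ψ *
      ((ψ : G → ℂ) 1 * ((Nat.card (P : Subgroup G) : ℂ) / (Nat.card G : ℂ)) * n ψ) := by
  have h1 : coef (B.indicator 1) 1 = ∑ u : (P : Subgroup G), coef (B.indicator 1) (u : G) := by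
    rw [Finset.sum_eq_single (1 : (P : Subgroup G))]
    · rfl
    · intro u _ hu
      exact coef_indicator_eq_zero hM hB (dvd_orderOf_of_mem_sylow P hu)
    · intro h; exact absurd (Finset.mem_univ _) h
  rw [h1]
  simp only [coef_apply]
  rw [← Finset.mul_sum, Finset.sum_comm, Finset.mul_sum]
  refine Finset.sum_congr rfl fun ψ _ => ?_
  have h2 : ∑ u : (P : Subgroup G), conj ((ψ : G → ℂ) u) =
      (Nat.card (P : Subgroup G) : ℂ) * n ψ := by
    rw [← map_sum, hsum]
    simp
  simp only [← Finset.mul_sum, h2]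
  ring

/-- **Brauer**: `dim B / |G|` has the same `p`-part as the degree of a height zero character. -/
theorem coef_indicator_one_div [Fact p.Prime] (hM : IsPModular p M) {B : Set (IrrCharacter G)}
    (hB : IsPBlock M B) {χ : IrrCharacter G} (hχ : χ ∈ B)
    (h0 : blockHeight p B (χ : G → ℂ) = 0) :
    MemLocalRing M (coef (B.indicator 1) 1 / (χ : G → ℂ) 1) ∧
      ¬ MemLocalIdeal M (coef (B.indicator 1) 1 / (χ : G → ℂ) 1) := by
  have := IsPModular.isPrime hM
  obtain ⟨P⟩ : Nonempty (Sylow p G) := inferInstance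
  obtain ⟨n, hsum⟩ := exists_sylow_mult P
  have h1 := one_eq_sum_om_creg P hsum χ
  have h2 := coef_indicator_one_eq hM hB P hsum
  set t : IrrCharacter G → ℂ := fun ψ => (ψ : G → ℂ) 1 / (χ : G → ℂ) 1 *
        ((Nat.card (P : Subgroup G) : ℂ) / (Nat.card G : ℂ)) * n ψ with ht
  have htS : ∀ ψ ∈ B, MemLocalRing M (t ψ) := by
    intro ψ hψ
    exact MemLocalRing.mul (MemLocalRing.mul
      (degree_div_memLocalRing hM (factorization_le_of_height_zero h0 hψ))
      (card_sylow_div_card_memLocalRing hM P)) (memLocalRing_natCast _)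
  have h3 : coef (B.indicator 1) 1 / (χ : G → ℂ) 1 = ∑ ψ : IrrCharacter G, B.indicator 1 ψ * t ψ := by
    rw [h2, Finset.sum_div]
    refine Finset.sum_congr rfl fun ψ _ => ?_
    simp only [ht]
    ring
  have hS : MemLocalRing M (coef (B.indicator 1) 1 / (χ : G → ℂ) 1) := by
    rw [h3]
    refine MemLocalRing.sum _ fun ψ _ => ?_
    by_cases hψ : ψ ∈ B
    · rw [Set.indicator_of_mem hψ, Pi.one_apply, one_mul]
      exact htS ψ hψ
    · rw [Set.indicator_of_notMem hψ, zero_mul]
      exact memLocalRing_zero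
  refine ⟨hS, fun hc => ?_⟩
  set κ := om (χ : G → ℂ) (creg p (χ : G → ℂ)) with hκ
  have hκS : MemLocalRing M κ := om_memLocalRing χ.2 (isClassFunction_creg (irr_isClassFunction χ.2))
    (memLocalRing_creg (IsIrrCharacter.isCharacter χ.2))
  have h4 : (1 : ℂ) - κ * (coef (B.indicator 1) 1 / (χ : G → ℂ) 1) =
      ∑ ψ : IrrCharacter G, (om (ψ : G → ℂ) (creg p (χ : G → ℂ)) - κ * B.indicator 1 ψ) * t ψ := by
    rw [h3, Finset.mul_sum]
    conv_lhs => rw [h1]
    rw [← Finset.sum_sub_distrib]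
    refine Finset.sum_congr rfl fun ψ _ => ?_
    simp only [ht]
    ring
  have h5 : MemLocalIdeal M ((1 : ℂ) - κ * (coef (B.indicator 1) 1 / (χ : G → ℂ) 1)) := by
    rw [h4]
    refine MemLocalIdeal.sum _ fun ψ _ => ?_
    by_cases hψ : ψ ∈ B
    · rw [Set.indicator_of_mem hψ, Pi.one_apply, mul_one]
      exact MemLocalIdeal.mul_right (om_sub_memLocalIdeal ψ.2 χ.2 (IsPBlock.sameBlock hB hψ hχ)
        (isClassFunction_creg (irr_isClassFunction χ.2))
        (memLocalRing_creg (IsIrrCharacter.isCharacter χ.2))) (htS ψ hψ)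
    · rw [Set.indicator_of_notMem hψ, om_creg_eq_zero hM hB hχ hψ]
      simp only [mul_zero, sub_zero, zero_mul]
      exact memLocalIdeal_zero
  apply not_memLocalIdeal_one (M := M)
  have h6 := MemLocalIdeal.add h5 (MemLocalIdeal.mul_left hκS hc)
  simpa using h6

theorem pDiv_natCast_div (hM : IsPModular p M) {A B : ℕ} (hA : A ≠ 0) (hB : B ≠ 0)
    (h : B.factorization p ≤ A.factorization p) :
    PDiv M p (A.factorization p - B.factorization p) ((A : ℂ) / (B : ℂ)) := by
  have := IsPModular.isPrime hM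
  rw [natCast_div_eq hM.1 hA hB h, mul_assoc]
  exact ⟨_, MemLocalRing.mul (memLocalRing_natCast _)
    (memLocalRing_inv_natCast hM (Nat.not_dvd_ordCompl hM.1 hB)), rfl⟩

/-- The coefficients of a block idempotent are divisible by `|C(g)|_p / p^d`. -/
theorem pDiv_coef_indicator [Fact p.Prime] (hM : IsPModular p M) {B : Set (IrrCharacter G)}
    (hB : IsPBlock M B) {g : G} {Q : Subgroup G} (hQ : IsPGroup p Q) (hQg : Q ≤ cen g) {m c : ℕ}
    (hm : ∀ χ ∈ B, m ≤ (charDegree (χ : G → ℂ)).factorization p) (hc : Nat.card Q = p ^ c) :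
    PDiv M p (m + c - (Nat.card G).factorization p) (coef (B.indicator 1) g) := by
  have := IsPModular.isPrime hM
  by_cases hreg : p ∣ orderOf g
  · rw [coef_indicator_eq_zero hM hB hreg]
    exact pDiv_zero _
  by_cases hle : m + c ≤ (Nat.card G).factorization p
  · rw [Nat.sub_eq_zero_of_le hle, pDiv_zero_iff]
    exact IsPBlock.indicator_mem_ZS hB g
  push Not at hle
  let P : Subgroup (cen g) := Q.subgroupOf (cen g)
  have hPp : IsPGroup p P := hQ.of_equiv (Subgroup.subgroupOfEquivOfLe hQg).symm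
  have hPc : Nat.card P = p ^ c := by
    rw [← hc]
    exact Nat.card_congr (Subgroup.subgroupOfEquivOfLe hQg).toEquiv
  let gh : cen g := ⟨g, Subgroup.mem_centralizer_singleton_iff.mpr rfl⟩
  have hgc : gh ∈ Subgroup.center (cen g) := by
    rw [Subgroup.mem_center_iff]
    intro c
    apply Subtype.ext
    exact (Subgroup.mem_centralizer_singleton_iff.mp c.2)
  set e : G → ℂ := coef (B.indicator 1) with he
  have h1 : e g = ∑ v : P, e (g * ((v : cen g) : G)) := by
    rw [Finset.sum_eq_single (1 : P)]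
    · simp
    · intro v _ hv
      apply coef_indicator_eq_zero hM hB
      have hcomm : Commute g ((v : cen g) : G) :=
        (Subgroup.mem_centralizer_singleton_iff.mp (v : cen g).2).symm
      obtain ⟨j, hj⟩ := (IsPGroup.iff_orderOf.mp hPp) v
      have hj' : orderOf ((v : cen g) : G) = p ^ j := by
        rw [Subgroup.orderOf_coe, Subgroup.orderOf_coe, hj]
      have hj0 : j ≠ 0 := by
        rintro rfl
        rw [pow_zero, orderOf_eq_one_iff] at hj
        exact hv hj
      rw [hcomm.orderOf_mul_eq_mul_orderOf_of_coprime, hj']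
      · exact Dvd.dvd.mul_left (dvd_pow_self p hj0) _
      · rw [hj']
        exact Nat.Coprime.pow_right j ((Nat.Prime.coprime_iff_not_dvd hM.1).mpr hreg).symm
    · intro h; exact absurd (Finset.mem_univ _) h
  have hG : (Nat.card G : ℂ) ≠ 0 := card_ne_zero_complex
  have hP0 : (Nat.card P : ℂ) ≠ 0 := card_subgroup_ne_zero _
  have h2 : ∑ v : P, e (g * ((v : cen g) : G)) =
      ∑ χ : IrrCharacter G, B.indicator 1 χ *
        ((((charDegree (χ : G → ℂ) * Nat.card P : ℕ) : ℂ) /
          ((Nat.card G : ℕ) : ℂ)) *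
        ((Nat.card P : ℂ)⁻¹ * ∑ v : P,
          (fun c : cen g => conj ((χ : G → ℂ) c)) (gh * v))) := by
    simp only [he, coef_apply, Finset.mul_sum]
    rw [Finset.sum_comm]
    refine Finset.sum_congr rfl fun χ _ => Finset.sum_congr rfl fun v _ => ?_
    push_cast
    rw [charDegree_cast (IsIrrCharacter.isCharacter χ.2)]
    have : (gh : G) = g := rfl
    rw [this]
    field_simp
  rw [h1, h2]
  refine PDiv.sum _ fun χ _ => ?_
  by_cases hχ : χ ∈ B
  · rw [Set.indicator_of_mem hχ]
    simp only [Pi.one_apply, one_mul]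
    have hfac : (charDegree (χ : G → ℂ) * Nat.card P).factorization p =
        (charDegree (χ : G → ℂ)).factorization p + c := by
      rw [Nat.factorization_mul (charDegree_pos χ.2).ne' Nat.card_pos.ne', hPc,
        Finsupp.add_apply, Nat.factorization_pow, hM.1.factorization]
      simp
    have hmχ := hm χ hχ
    refine PDiv.mul_right (PDiv.mono ?_ (pDiv_natCast_div hM
      (Nat.mul_ne_zero (charDegree_pos χ.2).ne' Nat.card_pos.ne') Nat.card_pos.ne' ?_))
      (memLocalRing_of_isIntegral (isIntegral_avg_central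
        (IsCharacter.restrict (cen g) (IsCharacter.conj (IsIrrCharacter.isCharacter χ.2))) hgc _))
    · rw [hfac]; omega
    · rw [hfac]; omega
  · rw [Set.indicator_of_notMem hχ, zero_mul]
    exact pDiv_zero _

end dim

end Cfsg.Agent.Lib.Helper6
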