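import Mathlib
import Cfsg.Prelude.Def_Blocks
import Cfsg.Agent.Lib.Helper6.Green

/-!
# The `p`-part of the dimension of a block
-/

set_option autoImplicit false

namespace Cfsg.Agent.Lib.Helper6

open Cfsg Cfsg.Agent.Lib.Helper2
open scoped ComplexConjugate Classical

attribute [local instance] irrFintype

section

variable {G : Type*} [Group G] [Fintype G] {M : Ideal AlgInt} {p : ℕ}

omit [Fintype G] in
theorem factorization_eq_of_unit_dimBlock (hM : IsPModular p M) {A B : ℕ} (hA : A ≠ 0) (hB : B ≠ 0)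
    (h1 : MemLocalRing M ((A : ℂ) / (B : ℂ))) (h2 : ¬ MemLocalIdeal M ((A : ℂ) / (B : ℂ))) :
    A.factorization p = B.factorization p := by
  have := IsPModular.isPrime hM
  rcases lt_trichotomy (A.factorization p) (B.factorization p) with h | h | h
  · exfalso
    have h3 := memLocalIdeal_natCast_div hM hB hA h
    have h4 := MemLocalIdeal.mul_left h1 h3
    have hA' : (A : ℂ) ≠ 0 := by exact_mod_cast hA
    have hB' : (B : ℂ) ≠ 0 := by exact_mod_cast hB
    have h5 : (A : ℂ) / (B : ℂ) * ((B : ℂ) / (A : ℂ)) = 1 := by field_simp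
    rw [h5] at h4
    exact not_memLocalIdeal_one h4
  · exact h
  · exact absurd (memLocalIdeal_natCast_div hM hA hB h) h2

omit [Fintype G] in
theorem factorization_eq_sInf_of_height_zero {B : Set (IrrCharacter G)} {χ : IrrCharacter G}
    (hχ : χ ∈ B) (h0 : blockHeight p B (χ : G → ℂ) = 0) :
    (charDegree (χ : G → ℂ)).factorization p =
      sInf ((fun χ : IrrCharacter G => (charDegree (χ : G → ℂ)).factorization p) '' B) := by
  apply le_antisymm
  · unfold blockHeight at h0
    omega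
  · exact Nat.sInf_le ⟨χ, hχ, rfl⟩

theorem coef_indicator_one_eq_sum (B : Set (IrrCharacter G)) :
    coef (B.indicator 1) 1 =
      ((∑ χ ∈ Finset.univ.filter (· ∈ B), charDegree (χ : G → ℂ) ^ 2 : ℕ) : ℂ) /
        (Nat.card G : ℂ) := by
  rw [coef_apply, div_eq_inv_mul]
  congr 1
  rw [Finset.sum_filter]
  push_cast
  refine Finset.sum_congr rfl fun χ _ => ?_
  by_cases h : χ ∈ B
  · rw [Set.indicator_of_mem h, if_pos h, Pi.one_apply, one_mul,
      ← Cfsg.Agent.Lib.Helper24.charDegree_cast (IsIrrCharacter.isCharacter χ.2),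
      Complex.conj_natCast]
    ring
  · rw [Set.indicator_of_notMem h, if_neg h, zero_mul]

/-- `ν_p(∑_{χ ∈ B} χ(1)²) = a + (a - d)`. -/
theorem factorization_sum_degree_sq [Fact p.Prime] (hM : IsPModular p M)
    {B : Set (IrrCharacter G)} (hB : IsPBlock M B) {χ : IrrCharacter G} (hχ : χ ∈ B)
    (h0 : blockHeight p B (χ : G → ℂ) = 0) :
    (∑ χ ∈ Finset.univ.filter (· ∈ B), charDegree (χ : G → ℂ) ^ 2).factorization p =
      (Nat.card G).factorization p + (charDegree (χ : G → ℂ)).factorization p := by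
  have hd0 : charDegree (χ : G → ℂ) ≠ 0 := (Cfsg.Agent.Lib.Helper24.charDegree_pos χ.2).ne'
  have hG0 : Nat.card G ≠ 0 := (Nat.card_pos (α := G)).ne'
  obtain ⟨h1, h2⟩ := coef_indicator_one_div hM hB hχ h0
  rw [coef_indicator_one_eq_sum,
    ← Cfsg.Agent.Lib.Helper24.charDegree_cast (IsIrrCharacter.isCharacter χ.2), div_div,
    ← Nat.cast_mul] at h1 h2
  have hT0 : (∑ χ ∈ Finset.univ.filter (· ∈ B), charDegree (χ : G → ℂ) ^ 2) ≠ 0 := by
    intro h
    have h3 := (Finset.sum_eq_zero_iff.mp h) χ (by simp [hχ])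
    exact hd0 (by simpa using h3)
  rw [factorization_eq_of_unit_dimBlock hM hT0 (Nat.mul_ne_zero hG0 hd0) h1 h2,
    Nat.factorization_mul hG0 hd0]
  rfl

end

end Cfsg.Agent.Lib.Helper6
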