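import Mathlib
import Cfsg.Prelude.Def_Blocks
import Cfsg.Agent.Lib.Helper6.RegSum
import Cfsg.Agent.Lib.Helper6.Vanish
import Cfsg.Agent.Lib.Helper6.Cover2
import Cfsg.Agent.Lib.Helper6.PPart
import Cfsg.Agent.Lib.Helper6.DefectOrder

/-!
# Groups in which a normal `p`-subgroup `D` is centralized by all `p`-regular elements
-/

set_option autoImplicit false
set_option linter.unusedSectionVars false

namespace Cfsg.Agent.Lib.Helper6

open Cfsg Cfsg.Agent.Lib.Helper2
open scoped ComplexConjugate Classical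

attribute [local instance] irrFintype

section

variable {G : Type*} [Group G] [Fintype G] {p : ℕ} {D : Subgroup G}

/-- All `p`-regular elements centralize `D`. -/
def RegCent (p : ℕ) (D : Subgroup G) : Prop :=
  ∀ x : G, ¬ p ∣ orderOf x → x ∈ Subgroup.centralizer (D : Set G)

theorem isPPart_of_regCent (hp : p.Prime) (hDp : IsPGroup p D) (hreg : RegCent p D) (y : D)
    {x : G} (hx : ¬ p ∣ orderOf x) : IsPPart p ((y : G) * x) (y : G) := by
  have : Fact p.Prime := ⟨hp⟩
  refine ⟨x, rfl, ?_, ?_, hx⟩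
  · exact (Subgroup.mem_centralizer_iff.mp (hreg x hx) y y.2)
  · obtain ⟨k, hk⟩ := IsPGroup.iff_orderOf.mp hDp y
    exact ⟨k, by rw [Subgroup.orderOf_coe, hk]⟩

/-- Summation over the elements whose `p`-part lies in `D`. -/
theorem sum_eq_sum_prod (hp : p.Prime) (hDp : IsPGroup p D) (hreg : RegCent p D) (F : G → ℂ)
    (hF : ∀ g z, IsPPart p g z → z ∉ D → F g = 0) :
    ∑ g, F g = ∑ y : D, ∑ x : G, (if p ∣ orderOf x then 0 else F ((y : G) * x)) := by
  have h1 : ∀ y : D, ∑ x : G, (if p ∣ orderOf x then 0 else F ((y : G) * x)) =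
      ∑ g : G, (if p ∣ orderOf ((y : G)⁻¹ * g) then 0 else F g) := by
    intro y
    refine Fintype.sum_equiv (Equiv.mulLeft (y : G)) _ _ fun x => ?_
    simp
  rw [Finset.sum_congr rfl (fun y _ => h1 y), Finset.sum_comm]
  refine Finset.sum_congr rfl fun g _ => ?_
  obtain ⟨z, hz⟩ := exists_isPPart hp g
  by_cases hzD : z ∈ D
  · rw [Finset.sum_eq_single (⟨z, hzD⟩ : D)]
    · obtain ⟨w, hzw, -, -, hw⟩ := hz
      rw [if_neg]
      rw [← hzw]
      simpa using hw
    · intro y _ hy
      rw [if_pos]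
      by_contra hcon
      apply hy
      have h2 := isPPart_of_regCent hp hDp hreg y hcon
      rw [mul_inv_cancel_left] at h2
      exact Subtype.ext (IsPPart.unique hp h2 hz)
    · intro h; exact absurd (Finset.mem_univ _) h
  · rw [hF g z hz hzD, Finset.sum_eq_zero]
    intro y _
    split_ifs <;> rfl

end

end Cfsg.Agent.Lib.Helper6
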