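import Mathlib
import Cfsg.Prelude.Def_Blocks
import Cfsg.Agent.Lib.Helper6.SecondMain
import Cfsg.Agent.Lib.Helper6.RegSum
import Cfsg.Agent.Lib.Helper6.PrincipalSection2
import Cfsg.Agent.Lib.Helper2.Induction

/-!
# Subsections: the isometry from class functions on the `p`-regular elements of `C_G(x)` to class
functions on the `p`-section of `x`, and the orthogonality relations for a subsection
-/

set_option autoImplicit false
set_option linter.unusedSectionVars false

namespace Cfsg.Agent.Lib.Helper6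

open Cfsg Cfsg.Agent.Lib.Helper2
open scoped ComplexConjugate Classical

attribute [local instance] irrFintype

section

variable {G : Type*} [Group G] [Fintype G] {H : Subgroup G} [Fintype H] {p : ℕ}

/-- `H` is the centralizer of the `p`-element `x ∈ H`. -/
structure IsCenOf (p : ℕ) {H : Subgroup G} (x : H) : Prop where
  pow : ∃ k : ℕ, orderOf (x : G) = p ^ k
  comm : ∀ h : H, h * x = x * h
  le : cen (x : G) ≤ H

/-- The class function `c ↦ χ (x c)` on `H`. -/
def tw (x : H) (χ : G → ℂ) : H → ℂ := fun c => χ ((x : G) * (c : G))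

theorem tw_apply (x : H) (χ : G → ℂ) (c : H) : tw x χ c = χ ((x : G) * (c : G)) := rfl

theorem isClassFunction_tw {x : H} (hx : IsCenOf p x) {χ : G → ℂ} (hχ : IsClassFunction G χ) :
    IsClassFunction H (tw x χ) := by
  intro c h
  rw [tw_apply, tw_apply, ← hχ ((x : G) * (c : G)) (h : G)]
  congr 1
  have h1 : (h : G) * (x : G) = (x : G) * (h : G) := congrArg Subtype.val (hx.comm h)
  push_cast
  calc (x : G) * ((h : G) * (c : G) * (h : G)⁻¹) = ((x : G) * (h : G)) * (c : G) * (h : G)⁻¹ := by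
        group
    _ = (h : G) * ((x : G) * (c : G)) * (h : G)⁻¹ := by rw [← h1]; group

/-- The lift of a function on `H` to the section of `x`. -/
noncomputable def lift (x : H) (f : H → ℂ) : G → ℂ := indFun H (fun c => f (x⁻¹ * c))

theorem isClassFunction_lift (x : H) (f : H → ℂ) : IsClassFunction G (lift x f) :=
  indFun_isClassFunction H _

theorem classInner_lift (x : H) (f : H → ℂ) {χ : G → ℂ} (hχ : IsClassFunction G χ) :
    classInner (lift x f) χ = classInner f (tw x χ) := by
  rw [lift, frobenius_reciprocity H _ χ hχ, classInner, classInner]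
  congr 1
  refine Fintype.sum_equiv (Equiv.mulLeft x⁻¹) _ _ fun c => ?_
  simp [tw_apply]

theorem isPPart_mul {x : H} (hx : IsCenOf p x) {c : H} (hc : ¬ p ∣ orderOf c) :
    IsPPart p ((x : G) * (c : G)) (x : G) := by
  refine ⟨c, rfl, ?_, hx.pow, ?_⟩
  · exact (congrArg Subtype.val (hx.comm c)).symm
  · rwa [Subgroup.orderOf_coe]

theorem lift_apply (hp : p.Prime) {x : H} (hx : IsCenOf p x) {f : H → ℂ}
    (hf : IsClassFunction H f) (hf0 : ∀ c, p ∣ orderOf c → f c = 0) {c : H}
    (hc : ¬ p ∣ orderOf c) : lift x f ((x : G) * (c : G)) = f c := by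
  have key : ∀ t : G, extendByZero H (fun c => f (x⁻¹ * c)) (t⁻¹ * ((x : G) * (c : G)) * t) =
      if t ∈ H then f c else 0 := by
    intro t
    by_cases ht : t ∈ H
    · rw [if_pos ht]
      have h1 : t⁻¹ * ((x : G) * (c : G)) * t = ((⟨t, ht⟩⁻¹ * (x * c) * ⟨t, ht⟩ : H) : G) := rfl
      rw [h1, extendByZero_coe]
      have h2 : x⁻¹ * ((⟨t, ht⟩ : H)⁻¹ * (x * c) * ⟨t, ht⟩) =
          (⟨t, ht⟩ : H)⁻¹ * c * ((⟨t, ht⟩ : H)⁻¹)⁻¹ := by
        have h3 := hx.comm (⟨t, ht⟩ : H)⁻¹
        calc x⁻¹ * ((⟨t, ht⟩ : H)⁻¹ * (x * c) * ⟨t, ht⟩)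
            = x⁻¹ * (((⟨t, ht⟩ : H)⁻¹ * x) * c * ⟨t, ht⟩) := by group
          _ = (⟨t, ht⟩ : H)⁻¹ * c * ((⟨t, ht⟩ : H)⁻¹)⁻¹ := by rw [h3]; group
      rw [h2, hf]
    · rw [if_neg ht]
      by_cases hm : t⁻¹ * ((x : G) * (c : G)) * t ∈ H
      · rw [extendByZero_mem H _ hm]
        apply hf0
        by_contra hreg
        apply ht
        set c' : H := ⟨t⁻¹ * ((x : G) * (c : G)) * t, hm⟩ with hc'
        have h1 : IsPPart p ((x : G) * ((x⁻¹ * c' : H) : G)) (x : G) := isPPart_mul hx hreg
        have h2 : (x : G) * ((x⁻¹ * c' : H) : G) = t⁻¹ * ((x : G) * (c : G)) * t := by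
          push_cast
          rw [mul_inv_cancel_left]
        rw [h2] at h1
        have h3 := IsPPart.conj (isPPart_mul hx hc) t⁻¹
        rw [inv_inv] at h3
        have h4 := IsPPart.unique hp h1 h3
        apply hx.le
        rw [Subgroup.mem_centralizer_singleton_iff]
        calc t * (x : G) = t * (t⁻¹ * (x : G) * t) := by rw [← h4]
          _ = (x : G) * t := by group
      · rw [extendByZero_not_mem H _ hm]
  rw [lift, indFun, Finset.sum_congr rfl (fun t _ => key t), sum_ite_mem_subgroup,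
    inv_mul_cancel_left₀ (card_subgroup_ne_zero H)]

theorem classInner_lift_lift (hp : p.Prime) {x : H} (hx : IsCenOf p x) {f f' : H → ℂ}
    (hf0 : ∀ c, p ∣ orderOf c → f c = 0)
    (hf' : IsClassFunction H f') (hf0' : ∀ c, p ∣ orderOf c → f' c = 0) :
    classInner (lift x f) (lift x f') = classInner f f' := by
  rw [classInner_lift x f (isClassFunction_lift x f'), classInner, classInner]
  congr 1
  refine Finset.sum_congr rfl fun c _ => ?_
  by_cases hc : p ∣ orderOf c
  · rw [hf0 c hc, zero_mul, zero_mul]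
  · rw [tw_apply, lift_apply hp hx hf' hf0' hc]

theorem classInner_eq_sum_irr {F F' : G → ℂ} (hF : IsClassFunction G F)
    (hF' : IsClassFunction G F') :
    classInner F F' = ∑ χ : IrrCharacter G,
      classInner F (χ : G → ℂ) * conj (classInner F' (χ : G → ℂ)) := by
  conv_lhs => rw [classFunction_eq_sum hF, classFunction_eq_sum hF']
  rw [classInner_sum_irr]

/-- The orthogonality relation on the section of `x`. -/
theorem sum_classInner_tw (hp : p.Prime) {x : H} (hx : IsCenOf p x) {f f' : H → ℂ}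
    (hf0 : ∀ c, p ∣ orderOf c → f c = 0)
    (hf' : IsClassFunction H f') (hf0' : ∀ c, p ∣ orderOf c → f' c = 0) :
    ∑ χ : IrrCharacter G, classInner f (tw x (χ : G → ℂ)) * conj (classInner f' (tw x (χ : G → ℂ)))
      = classInner f f' := by
  rw [← classInner_lift_lift hp hx hf0 hf' hf0',
    classInner_eq_sum_irr (isClassFunction_lift x f) (isClassFunction_lift x f')]
  refine Finset.sum_congr rfl fun χ _ => ?_
  rw [classInner_lift x f (irr_isClassFunction χ.2), classInner_lift x f' (irr_isClassFunction χ.2)]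

/-- Weak block orthogonality for a set of characters. -/
def WeakOrth (p : ℕ) (S : Set (IrrCharacter H)) : Prop :=
  ∀ s c : H, ¬ p ∣ orderOf s → p ∣ orderOf c →
    ∑ ξ : IrrCharacter H, S.indicator 1 ξ * ((ξ : H → ℂ) c * conj ((ξ : H → ℂ) s)) = 0

/-- The column of `s` in `S`. -/
noncomputable def colFun (S : Set (IrrCharacter H)) (s : H) : H → ℂ :=
  ∑ ξ : IrrCharacter H, (S.indicator 1 ξ * conj ((ξ : H → ℂ) s)) • (ξ : H → ℂ)

theorem colFun_apply (S : Set (IrrCharacter H)) (s c : H) :
    colFun S s c = ∑ ξ : IrrCharacter H, S.indicator 1 ξ * ((ξ : H → ℂ) c * conj ((ξ : H → ℂ) s)) := by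
  simp only [colFun, Finset.sum_apply, Pi.smul_apply, smul_eq_mul]
  refine Finset.sum_congr rfl fun ξ _ => by ring

theorem isClassFunction_colFun (S : Set (IrrCharacter H)) (s : H) :
    IsClassFunction H (colFun S s) := by
  intro c h
  rw [colFun_apply, colFun_apply]
  refine Finset.sum_congr rfl fun ξ _ => ?_
  rw [irr_isClassFunction ξ.2 c h]

theorem bPart_apply' (S : Set (IrrCharacter H)) (φ : H → ℂ) (s : H) :
    bPart S φ s = ∑ ξ : IrrCharacter H, S.indicator 1 ξ * (classInner φ (ξ : H → ℂ) * (ξ : H → ℂ) s) := by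
  simp only [bPart, Finset.sum_apply, Pi.smul_apply, smul_eq_mul]
  refine Finset.sum_congr rfl fun ξ _ => by ring

theorem conj_indicator_one (S : Set (IrrCharacter H)) (ξ : IrrCharacter H) :
    conj (S.indicator (1 : IrrCharacter H → ℂ) ξ) = S.indicator 1 ξ := by
  by_cases h : ξ ∈ S
  · rw [Set.indicator_of_mem h]; simp
  · rw [Set.indicator_of_notMem h]; simp

theorem indicator_one_mul_self (S : Set (IrrCharacter H)) (ξ : IrrCharacter H) :
    S.indicator (1 : IrrCharacter H → ℂ) ξ * S.indicator 1 ξ = S.indicator 1 ξ := by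
  by_cases h : ξ ∈ S
  · rw [Set.indicator_of_mem h]; simp
  · rw [Set.indicator_of_notMem h]; simp

theorem classInner_colFun (S : Set (IrrCharacter H)) (s : H) (φ : H → ℂ) :
    classInner (colFun S s) φ = conj (bPart S φ s) := by
  rw [colFun, classInner_sum_left, bPart_apply', map_sum]
  refine Finset.sum_congr rfl fun ξ _ => ?_
  rw [classInner_smul_left, map_mul, map_mul, conj_indicator_one, classInner_conj_symm]
  ring

theorem classInner_colFun_self (S : Set (IrrCharacter H)) (s : H) :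
    classInner (colFun S s) (colFun S s) =
      ∑ ξ : IrrCharacter H, S.indicator 1 ξ * ((ξ : H → ℂ) s * conj ((ξ : H → ℂ) s)) := by
  rw [colFun, classInner_sum_irr]
  refine Finset.sum_congr rfl fun ξ _ => ?_
  rw [map_mul, conj_indicator_one, Complex.conj_conj]
  calc S.indicator 1 ξ * conj ((ξ : H → ℂ) s) * (S.indicator 1 ξ * (ξ : H → ℂ) s)
      = (S.indicator 1 ξ * S.indicator 1 ξ) * ((ξ : H → ℂ) s * conj ((ξ : H → ℂ) s)) := by ring
    _ = _ := by rw [indicator_one_mul_self]

/-- The length of the column of `s` in the `S`-parts of the `χ (x ·)`. -/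
theorem sum_bPart_tw (hp : p.Prime) {x : H} (hx : IsCenOf p x) {S : Set (IrrCharacter H)}
    (hW : WeakOrth p S) {s : H} (hs : ¬ p ∣ orderOf s) :
    ∑ χ : IrrCharacter G, bPart S (tw x (χ : G → ℂ)) s * conj (bPart S (tw x (χ : G → ℂ)) s) =
      ∑ ξ : IrrCharacter H, S.indicator 1 ξ * ((ξ : H → ℂ) s * conj ((ξ : H → ℂ) s)) := by
  have h0 : ∀ c, p ∣ orderOf c → colFun S s c = 0 := by
    intro c hc
    rw [colFun_apply]
    exact hW s c hs hc
  rw [← classInner_colFun_self, ← sum_classInner_tw hp hx h0 (isClassFunction_colFun S s) h0]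
  refine Finset.sum_congr rfl fun χ _ => ?_
  rw [classInner_colFun, Complex.conj_conj, mul_comm]

theorem classInner_regPart_self (ξ : H → ℂ) :
    (Nat.card H : ℂ) * classInner (regPart p ξ) ξ =
      ∑ s : H, if p ∣ orderOf s then 0 else ξ s * conj (ξ s) := by
  rw [classInner, mul_inv_cancel_left₀ (card_subgroup_ne_zero (⊤ : Subgroup H) |> fun h => by
    intro h'
    exact (Nat.card_pos (α := H)).ne' (by exact_mod_cast h'))]
  refine Finset.sum_congr rfl fun s _ => ?_
  rw [regPart_apply]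
  split_ifs <;> simp

/-- The trace of the contribution matrix of a union of subsections. -/
theorem sum_subsection (hp : p.Prime) {x : H} (hx : IsCenOf p x) {S : Set (IrrCharacter H)}
    (hW : WeakOrth p S) {B : Set (IrrCharacter G)}
    (hS : ∀ χ : IrrCharacter G, χ ∉ B → ∀ s : H, ¬ p ∣ orderOf s →
      bPart S (tw x (χ : G → ℂ)) s = 0) :
    ∑ χ : IrrCharacter G, B.indicator 1 χ * ∑ s : H, (if p ∣ orderOf s then 0 else
        bPart S (tw x (χ : G → ℂ)) s * conj (bPart S (tw x (χ : G → ℂ)) s)) =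
      (Nat.card H : ℂ) * ∑ ξ : IrrCharacter H, S.indicator 1 ξ *
        classInner (regPart p (ξ : H → ℂ)) (ξ : H → ℂ) := by
  have h1 : ∀ χ : IrrCharacter G, B.indicator 1 χ * ∑ s : H, (if p ∣ orderOf s then 0 else
        bPart S (tw x (χ : G → ℂ)) s * conj (bPart S (tw x (χ : G → ℂ)) s)) =
      ∑ s : H, (if p ∣ orderOf s then 0 else
        bPart S (tw x (χ : G → ℂ)) s * conj (bPart S (tw x (χ : G → ℂ)) s)) := by
    intro χ
    by_cases hχ : χ ∈ B
    · rw [Set.indicator_of_mem hχ, Pi.one_apply, one_mul]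
    · rw [Set.indicator_of_notMem hχ, zero_mul]
      rw [Finset.sum_eq_zero]
      intro s _
      split_ifs with h
      · rfl
      · rw [hS χ hχ s h, zero_mul]
  rw [Finset.sum_congr rfl (fun χ _ => h1 χ), Finset.mul_sum]
  have h2 : ∀ ξ : IrrCharacter H, (Nat.card H : ℂ) * (S.indicator 1 ξ *
      classInner (regPart p (ξ : H → ℂ)) (ξ : H → ℂ)) =
      ∑ s : H, if p ∣ orderOf s then 0 else
        S.indicator 1 ξ * ((ξ : H → ℂ) s * conj ((ξ : H → ℂ) s)) := by
    intro ξ
    rw [mul_left_comm, classInner_regPart_self, Finset.mul_sum]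
    refine Finset.sum_congr rfl fun s _ => ?_
    split_ifs <;> simp
  rw [Finset.sum_congr rfl (fun ξ _ => h2 ξ)]
  conv_lhs => rw [Finset.sum_comm]
  conv_rhs => rw [Finset.sum_comm]
  refine Finset.sum_congr rfl fun s _ => ?_
  by_cases hs : p ∣ orderOf s
  · simp [hs]
  · simp only [if_neg hs]
    exact sum_bPart_tw hp hx hW hs

end

section blocks

variable {G : Type*} [Group G] [Fintype G] {H : Subgroup G} [Fintype H] {p : ℕ}
  {M : Ideal AlgInt}

theorem weakOrth_block (hM : IsPModular p M) {b : Set (IrrCharacter H)} (hb : IsPBlock M b) :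
    WeakOrth p b := fun _ _ hs hc => weak_block_orthogonality' hM hb hs hc

/-- The Second Main Theorem in terms of `bPart`. -/
theorem bPart_tw_eq_zero (hM : IsPModular p M) {x : H} (hx : IsCenOf p x)
    {b : Set (IrrCharacter H)} {B : Set (IrrCharacter G)} (hind : IsInducedBlock M H b B)
    {χ : IrrCharacter G} (hχ : χ ∉ B) {s : H} (hs : ¬ p ∣ orderOf s) :
    bPart b (tw x (χ : G → ℂ)) s = 0 := by
  have h1 := second_main_idem hM H hind (x * s) (by
    intro z hz
    have h3 : IsPPart p ((x : G) * (s : G)) (x : G) := isPPart_mul hx hs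
    rw [IsPPart.unique hM.1 hz h3]
    exact hx.le) χ hχ
  have h2 := sum_coef_mul_class (b.indicator 1)
    (isClassFunction_tw hx (irr_isClassFunction χ.2)) s
  rw [bPart_apply']
  have h4 : ∑ ξ : IrrCharacter H, b.indicator 1 ξ *
      (classInner (tw x (χ : G → ℂ)) (ξ : H → ℂ) * (ξ : H → ℂ) s) =
      ∑ ψ : IrrCharacter H, b.indicator 1 ψ * classInner (tw x (χ : G → ℂ)) (ψ : H → ℂ) *
        (ψ : H → ℂ) s := Finset.sum_congr rfl fun ξ _ => by ring
  rw [h4, ← h2, ← h1]
  refine Finset.sum_congr rfl fun k _ => ?_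
  rw [tw_apply]
  congr 2
  have h5 : (k : G) * (x : G) = (x : G) * (k : G) := congrArg Subtype.val (hx.comm k)
  push_cast
  rw [← mul_assoc, ← h5, mul_assoc]

/-- The finite set of blocks. -/
noncomputable def blocksFinset (M : Ideal AlgInt) (K : Type*) [Group K] [Fintype K] :
    Finset (Set (IrrCharacter K)) :=
  Finset.univ.image (fun χ : IrrCharacter K => blockOf M (χ : K → ℂ))

theorem mem_blocksFinset {K : Type*} [Group K] [Fintype K] {b : Set (IrrCharacter K)} :
    b ∈ blocksFinset M K ↔ IsPBlock M b := by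
  rw [blocksFinset, Finset.mem_image]
  constructor
  · rintro ⟨χ, -, rfl⟩
    exact ⟨χ, rfl⟩
  · rintro ⟨χ, rfl⟩
    exact ⟨χ, Finset.mem_univ _, rfl⟩

theorem sum_indicator_union [M.IsPrime] {K : Type*} [Group K] [Fintype K]
    (P : Set (IrrCharacter K) → Prop) (F : IrrCharacter K → ℂ) :
    ∑ ξ : IrrCharacter K, {ξ : IrrCharacter K | P (blockOf M (ξ : K → ℂ))}.indicator 1 ξ * F ξ =
      ∑ b ∈ (blocksFinset M K).filter P, ∑ ξ : IrrCharacter K, b.indicator 1 ξ * F ξ := by
  rw [Finset.sum_comm]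
  refine Finset.sum_congr rfl fun ξ _ => ?_
  rw [Finset.sum_filter, Finset.sum_eq_single (blockOf M (ξ : K → ℂ))]
  · by_cases h : P (blockOf M (ξ : K → ℂ))
    · rw [if_pos h, Set.indicator_of_mem (mem_blockOf_self ξ), Set.indicator_of_mem]
      exact h
    · rw [if_neg h, Set.indicator_of_notMem, zero_mul]
      exact h
  · intro b hb hne
    obtain ⟨χ, rfl⟩ := mem_blocksFinset.mp hb
    split_ifs
    · rw [Set.indicator_of_notMem, zero_mul]
      intro hξ
      exact hne (blockOf_eq_of_mem hξ).symm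
    · rfl
  · intro h
    exact absurd (mem_blocksFinset.mpr ⟨ξ, rfl⟩) h

end blocks

end Cfsg.Agent.Lib.Helper6
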