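import Mathlib
import Cfsg.Prelude.Def_Blocks
import Cfsg.Prelude.Def_BrauerPairs
import Cfsg.Agent.Lib.Helper6.Subsection
import Cfsg.Agent.Lib.Helper6.FirstMain
import Cfsg.Agent.Lib.Helper6.PrincipalSection
import Cfsg.Agent.Lib.Helper24.BlockRank

/-!
# Subsections, continued: translation to the frozen definitions
-/

set_option autoImplicit false
set_option linter.unusedSectionVars false

namespace Cfsg.Agent.Lib.Helper6

open Cfsg Cfsg.Agent.Lib.Helper2 Cfsg.Agent.Lib.Helper24
open scoped ComplexConjugate Classical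

attribute [local instance] irrFintype

section

variable {K : Type*} [Group K] [Fintype K] {p : ℕ} {M : Ideal AlgInt}

theorem blockPart_eq_bPart (S : Set (IrrCharacter K)) (φ : K → ℂ) :
    blockPart S φ = bPart S φ := by
  ext g
  have h : blockPart S φ g = ∑ᶠ χ ∈ S, classInner φ (χ : K → ℂ) * (χ : K → ℂ) g := by
    unfold blockPart
    congr 1
    funext χ
    congr 1
    funext _
    congr 2
    exact Subsingleton.elim _ _
  rw [h, finsum_mem_eq_sum_indicator]
  simp only [bPart, Finset.sum_apply, Pi.smul_apply, smul_eq_mul]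
  refine Finset.sum_congr rfl fun ξ _ => by ring

theorem pRegularPart_eq_regPart (f : K → ℂ) : pRegularPart p f = regPart p f := by
  ext g
  rw [pRegularPart_apply, regPart_apply]
  split_ifs <;> simp_all

theorem blockRank_eq_sum' [Fact p.Prime] (hM : IsPModular p M) {b : Set (IrrCharacter K)}
    (hb : IsPBlock M b) :
    (blockRank p b : ℂ) = ∑ ξ : IrrCharacter K, b.indicator 1 ξ *
      classInner (regPart p (ξ : K → ℂ)) (ξ : K → ℂ) := by
  rw [blockRank_eq_sum hM hb, Finset.sum_filter]
  refine Finset.sum_congr rfl fun ξ _ => ?_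
  rw [pRegularPart_eq_regPart]
  by_cases h : ξ ∈ b
  · rw [if_pos h, Set.indicator_of_mem h, Pi.one_apply, one_mul]
  · rw [if_neg h, Set.indicator_of_notMem h, zero_mul]

end

section

variable {G : Type*} [Group G] [Fintype G] {H : Subgroup G} [Fintype H] {p : ℕ}
  {M : Ideal AlgInt}

theorem classInner_tw_inv {x : H} (hx : IsCenOf p x) {χ : G → ℂ} (hχ : IsCharacter G χ)
    {ξ : H → ℂ} (hξ : IsCharacter H ξ) :
    classInner (tw x⁻¹ χ) ξ = conj (classInner (tw x χ) ξ) := by
  rw [classInner, classInner, map_mul, map_inv₀, map_natCast, map_sum]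
  congr 1
  refine Fintype.sum_equiv (Equiv.inv H) _ _ fun c => ?_
  rw [Equiv.inv_apply, map_mul, Complex.conj_conj, tw_apply, tw_apply,
    ← IsCharacter.apply_inv hχ, IsCharacter.apply_inv hξ]
  congr 2
  have h1 : (c : G) * (x : G) = (x : G) * (c : G) := congrArg Subtype.val (hx.comm c)
  push_cast
  rw [mul_inv_rev, inv_inv]
  calc (x : G)⁻¹ * (c : G) = (x : G)⁻¹ * ((c : G) * (x : G)) * (x : G)⁻¹ := by group
    _ = (c : G) * (x : G)⁻¹ := by rw [h1]; group

theorem bPart_tw_inv {x : H} (hx : IsCenOf p x) {χ : G → ℂ} (hχ : IsCharacter G χ)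
    (S : Set (IrrCharacter H)) (s : H) :
    bPart S (tw x⁻¹ χ) s⁻¹ = conj (bPart S (tw x χ) s) := by
  rw [bPart_apply', bPart_apply', map_sum]
  refine Finset.sum_congr rfl fun ξ _ => ?_
  rw [map_mul, map_mul, conj_indicator_one,
    classInner_tw_inv hx hχ (IsIrrCharacter.isCharacter ξ.2),
    IsCharacter.apply_inv (IsIrrCharacter.isCharacter ξ.2)]

/-- The element `x` of its centralizer. -/
def cenElt (x : G) : cen x := ⟨x, Subgroup.mem_centralizer_singleton_iff.mpr rfl⟩

theorem isCenOf_cenElt {x : G} (hx : ∃ k : ℕ, orderOf x = p ^ k) : IsCenOf p (cenElt x) where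
  pow := hx
  comm := fun h => Subtype.ext (Subgroup.mem_centralizer_singleton_iff.mp h.2)
  le := le_rfl

/-- The element `x` of the centralizer of the subgroup it generates. -/
def cenElt' (x : G) : Subgroup.centralizer (Subgroup.zpowers x : Set G) :=
  ⟨x, cen_le_centralizer_zpowers x (Subgroup.mem_centralizer_singleton_iff.mpr rfl)⟩

theorem isCenOf_cenElt' {x : G} (hx : ∃ k : ℕ, orderOf x = p ^ k) : IsCenOf p (cenElt' x) where
  pow := hx
  comm := fun h => Subtype.ext
    ((Subgroup.mem_centralizer_iff.mp h.2 x (Subgroup.mem_zpowers x)).symm)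
  le := cen_le_centralizer_zpowers x

/-- A Brauer pair of `B` on a cyclic subgroup gives an induced block. -/
theorem isInducedBlock_of_isBrauerPairOf (hM : IsPModular p M) {B : Set (IrrCharacter G)} {Q : Subgroup G}
    [Fintype (Subgroup.centralizer (Q : Set G))]
    (hQ : Q ≤ Subgroup.centralizer (Q : Set G))
    {e : Set (IrrCharacter (Subgroup.centralizer (Q : Set G)))}
    (h : IsBrauerPairOf p M B Q e) :
    IsInducedBlock M (Subgroup.centralizer (Q : Set G)) e B := by
  have := IsPModular.isPrime hM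
  obtain ⟨⟨hP, he⟩, hB, hom⟩ := h
  have hHN : Subgroup.centralizer (Q : Set G) ≤ Subgroup.normalizer (Q : Set G) :=
    Subgroup.centralizer_le_normalizer _
  obtain ⟨B', hind⟩ := inducedBlockDefined_of_le hM hP hQ le_rfl hHN he
  obtain ⟨ξ, hξ⟩ := IsPBlock.nonempty he
  obtain ⟨χ', hχ'⟩ := IsPBlock.nonempty hind.2.1
  have h2 := om_brMap_sub_om hM hP hQ hHN hind hξ hχ' (isClassFunction_coef (B.indicator 1))
    (IsPBlock.indicator_mem_ZS hB)
  have h3 : brauerOmega Q (blockCoeff B) (ξ : Subgroup.centralizer (Q : Set G) → ℂ) =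
      om (ξ : Subgroup.centralizer (Q : Set G) → ℂ)
        (brMap Q (Subgroup.centralizer (Q : Set G)) (coef (B.indicator 1))) := by
    rw [brauerOmega, finsum_eq_sum_of_fintype, om, Finset.sum_div]
    refine Finset.sum_congr rfl fun c _ => ?_
    rw [brMap_apply, if_pos c.2, blockCoeff_eq_coef]
  have h4 := hom ξ hξ
  rw [h3] at h4
  have h5 : χ' ∈ B := by
    by_contra hcon
    rw [om_coef, Set.indicator_of_notMem hcon, sub_zero] at h2
    have := MemLocalIdeal.sub h2 h4
    rw [sub_sub_cancel] at this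
    exact not_memLocalIdeal_one this
  rw [IsPBlock.eq_of_mem_of_mem hB hind.2.1 h5 hχ']
  exact hind

end

end Cfsg.Agent.Lib.Helper6
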