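import Mathlib
import Cfsg.Prelude.Def_Blocks
import Cfsg.Agent.Lib.Helper6.CentralProd
import Cfsg.Agent.Lib.Helper6.NormalIdem
import Cfsg.Agent.Lib.Helper6.FirstMain
import Cfsg.Agent.Lib.Helper6.Height
import Cfsg.Agent.Lib.Helper6.Subsection2

/-!
# Blocks of groups in which a normal `p`-subgroup `D` is centralized by all `p`-regular elements
-/

set_option autoImplicit false
set_option linter.unusedSectionVars false

namespace Cfsg.Agent.Lib.Helper6

open Cfsg Cfsg.Agent.Lib.Helper2 Cfsg.Agent.Lib.Helper24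
open scoped ComplexConjugate Classical

attribute [local instance] irrFintype

section

variable {G : Type*} [Group G] [Fintype G] {p : ℕ} {D : Subgroup G} {M : Ideal AlgInt}

theorem dvd_orderOf_mul_of_regCent (hp : p.Prime) (hDp : IsPGroup p D) (hreg : RegCent p D)
    {y : G} (hyD : y ∈ D) (hy : y ≠ 1) {x : G} (hx : ¬ p ∣ orderOf x) : p ∣ orderOf (y * x) := by
  by_contra hcon
  apply hy
  have h1 := isPPart_of_regCent hp hDp hreg ⟨y, hyD⟩ hx
  have h2 : IsPPart p (y * x) 1 := ⟨y * x, one_mul _, Commute.one_left _, ⟨0, by simp⟩, hcon⟩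
  exact IsPPart.unique hp h1 h2

/-- The values of a character on `p`-regular elements in terms of the characters of its block
with `D` in their kernel. -/
theorem irr_reg_eq_sum (hM : IsPModular p M) [D.Normal] (hDp : IsPGroup p D)
    (hreg : RegCent p D) {B : Set (IrrCharacter G)} (hB : IsPBlock M B) {θ : IrrCharacter G}
    (hθ : θ ∈ B) {x : G} (hx : ¬ p ∣ orderOf x) :
    (θ : G → ℂ) x = (Nat.card D : ℂ) * ∑ η : IrrCharacter G, B.indicator 1 η *
      (if ∀ n ∈ D, (η : G → ℂ) n = (η : G → ℂ) 1 then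
        classInner (regPart p (θ : G → ℂ)) (η : G → ℂ) * (η : G → ℂ) x else 0) := by
  have hD0 : (Nat.card D : ℂ) ≠ 0 := card_subgroup_ne_zero _
  have h0 := bPart_regPart_irr hM hB hθ
  have h1 : ∑ u, eSub D u * regPart p (θ : G → ℂ) (u * x) = (Nat.card D : ℂ)⁻¹ * (θ : G → ℂ) x := by
    rw [Finset.sum_eq_single (1 : G)]
    · rw [eSub_apply, if_pos D.one_mem, one_mul, regPart_of_not_dvd _ hx]
    · intro u _ hu
      rw [eSub_apply]
      split_ifs with huD
      · rw [regPart_of_dvd _ (dvd_orderOf_mul_of_regCent hM.1 hDp hreg huD hu hx), mul_zero]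
      · rw [zero_mul]
    · intro h; exact absurd (Finset.mem_univ _) h
  have h2 : ∑ u, eSub D u * bPart B (regPart p (θ : G → ℂ)) (u * x) =
      ∑ η : IrrCharacter G, B.indicator 1 η *
      (if ∀ n ∈ D, (η : G → ℂ) n = (η : G → ℂ) 1 then
        classInner (regPart p (θ : G → ℂ)) (η : G → ℂ) * (η : G → ℂ) x else 0) := by
    simp only [bPart, Finset.sum_apply, Pi.smul_apply, smul_eq_mul, Finset.mul_sum]
    rw [Finset.sum_comm]
    refine Finset.sum_congr rfl fun η _ => ?_
    have h3 := sum_class_mul_irr η.2 (isClassFunction_eSub D) x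
    have h4 : ∑ u, eSub D u * (B.indicator 1 η * classInner (regPart p (θ : G → ℂ)) (η : G → ℂ) *
        (η : G → ℂ) (u * x)) = B.indicator 1 η * classInner (regPart p (θ : G → ℂ)) (η : G → ℂ) *
        ∑ u, eSub D u * (η : G → ℂ) (u * x) := by
      rw [Finset.mul_sum]
      refine Finset.sum_congr rfl fun u _ => by ring
    rw [h4, h3]
    split_ifs with hk
    · rw [om_eSub_of_ker D η.2 hk]; ring
    · rw [om_eSub_of_not_ker D η.2 hk]; ring
  rw [h0, h1] at h2
  rw [← h2, ← mul_assoc, mul_inv_cancel₀ hD0, one_mul]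

/-- Every block contains a character with `D` in its kernel. -/
theorem exists_mem_ker (hM : IsPModular p M) [D.Normal] (hDp : IsPGroup p D)
    (hreg : RegCent p D) {B : Set (IrrCharacter G)} (hB : IsPBlock M B) :
    ∃ η ∈ B, ∀ n ∈ D, (η : G → ℂ) n = (η : G → ℂ) 1 := by
  have := IsPModular.isPrime hM
  obtain ⟨θ, hθ⟩ := IsPBlock.nonempty hB
  by_contra hcon
  push Not at hcon
  have h1 : ¬ p ∣ orderOf (1 : G) := by
    rw [orderOf_one]
    exact hM.1.one_lt.ne' ∘ Nat.dvd_one.mp
  have h2 := irr_reg_eq_sum hM hDp hreg hB hθ h1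
  rw [Finset.sum_eq_zero, mul_zero] at h2
  · exact irr_one_ne_zero θ.2 h2
  · intro η _
    by_cases hη : η ∈ B
    · rw [if_neg, mul_zero]
      intro hk
      obtain ⟨n, hn, hne⟩ := hcon η hη
      exact hne (hk n hn)
    · rw [Set.indicator_of_notMem hη, zero_mul]

theorem cj_of_normal [D.Normal] (t : G) : cj t D = D := by
  ext x
  rw [mem_cj]
  constructor
  · intro h
    have := Subgroup.Normal.conj_mem (inferInstance : D.Normal) _ h t
    simpa [mul_assoc] using this
  · intro h
    have := Subgroup.Normal.conj_mem (inferInstance : D.Normal) _ h t⁻¹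
    simpa [mul_assoc] using this

/-- Characters of a block with normal defect group `D` vanish off the elements with `p`-part in
`D`. -/
theorem irr_eq_zero_of_normal_defect [Fact p.Prime] (hM : IsPModular p M) [D.Normal]
    {B : Set (IrrCharacter G)} (hB : IsPBlock M B) (hD : IsDefectGroup p M B D)
    {θ : IrrCharacter G} (hθ : θ ∈ B) {g z : G} (hz : IsPPart p g z) (hzD : z ∉ D) :
    (θ : G → ℂ) g = 0 := by
  have := IsPModular.isPrime hM
  apply irr_eq_zero_of_pPart_not_mem hM θ hz
  intro D' hD'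
  rw [← IsPBlock.eq_blockOf hB hθ] at hD'
  obtain ⟨t, rfl⟩ := isDefectGroup_exists_conj hM hB hD hD'
  rwa [cj_of_normal]

theorem index_factorization_of_defect [Fact p.Prime] (hM : IsPModular p M)
    {g : G} (hDg : IsSylIn p (cen g) D) :
    D.index.factorization p = (cen g).index.factorization p := by
  have hp : p.Prime := hM.1
  have h1 := factorization_card_eq (p := p) g
  have h2 : (Nat.card G).factorization p = D.index.factorization p + (Nat.card D).factorization p := by
    rw [← D.index_mul_card, Nat.factorization_mul Subgroup.index_ne_zero_of_finite Nat.card_pos.ne']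
    rfl
  have h3 : (Nat.card D).factorization p = (Nat.card (cen g)).factorization p := by
    rw [hDg.card, Nat.factorization_pow, hp.factorization]
    simp
  omega

theorem factorization_degree_of_ker [Fact p.Prime] (hM : IsPModular p M) [D.Normal]
    {B : Set (IrrCharacter G)} (hB : IsPBlock M B) (hD : IsDefectGroup p M B D)
    {χ : IrrCharacter G} (hχ : χ ∈ B) (hker : ∀ n ∈ D, (χ : G → ℂ) n = (χ : G → ℂ) 1) :
    (charDegree (χ : G → ℂ)).factorization p = D.index.factorization p := by
  obtain ⟨g, hg, hDg⟩ := isDefectGroup_iff.mp hD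
  apply le_antisymm
  · exact (Nat.factorization_le_iff_dvd (charDegree_pos χ.2).ne'
      Subgroup.index_ne_zero_of_finite).mpr
      (Cfsg.Agent.Lib.Helper24.degree_dvd_index D χ.2 hker) p
  · rw [index_factorization_of_defect hM hDg]
    exact le_factorization_degree hM hg hχ

theorem height_zero_of_ker [Fact p.Prime] (hM : IsPModular p M) [D.Normal]
    {B : Set (IrrCharacter G)} (hB : IsPBlock M B) (hD : IsDefectGroup p M B D)
    {χ : IrrCharacter G} (hχ : χ ∈ B) (hker : ∀ n ∈ D, (χ : G → ℂ) n = (χ : G → ℂ) 1) :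
    blockHeight p B (χ : G → ℂ) = 0 := by
  obtain ⟨g, hg, hDg⟩ := isDefectGroup_iff.mp hD
  rw [blockHeight, sInf_degree_eq hM hB hg, factorization_degree_of_ker hM hB hD hχ hker,
    index_factorization_of_defect hM hDg, Nat.sub_self]

/-- Inner products of functions of product form. -/
theorem classInner_of_prod (hp : p.Prime) (hDp : IsPGroup p D) (hreg : RegCent p D)
    {θ θ' : G → ℂ} {ζ ζ' : D → ℂ} {f f' : G → ℂ}
    (hθ : ∀ (y : D) (x : G), ¬ p ∣ orderOf x → θ ((y : G) * x) = ζ y * f x)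
    (hθ' : ∀ (y : D) (x : G), ¬ p ∣ orderOf x → θ' ((y : G) * x) = ζ' y * f' x)
    (hv : ∀ g z, IsPPart p g z → z ∉ D → θ g = 0) :
    classInner θ θ' = (Nat.card D : ℂ) * classInner ζ ζ' * classInner (regPart p f) f' := by
  have hD0 : (Nat.card D : ℂ) ≠ 0 := card_subgroup_ne_zero _
  rw [classInner, sum_eq_sum_prod hp hDp hreg (fun g => θ g * conj (θ' g))
    (fun g z hz hzD => by simp only [hv g z hz hzD, zero_mul])]
  have h1 : ∀ y : D, ∑ x : G, (if p ∣ orderOf x then 0 else
      θ ((y : G) * x) * conj (θ' ((y : G) * x))) =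
      (ζ y * conj (ζ' y)) * ∑ x : G, regPart p f x * conj (f' x) := by
    intro y
    rw [Finset.mul_sum]
    refine Finset.sum_congr rfl fun x _ => ?_
    rw [regPart_apply]
    split_ifs with hx
    · ring
    · rw [hθ y x hx, hθ' y x hx, map_mul]; ring
  rw [Finset.sum_congr rfl (fun y _ => h1 y), ← Finset.sum_mul, classInner, classInner]
  field_simp

theorem classInner_regPart_ne_zero [Fact p.Prime] (hM : IsPModular p M)
    {B : Set (IrrCharacter G)} (hB : IsPBlock M B) {χ ψ : IrrCharacter G} (hχ : χ ∈ B)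
    (hψ : ψ ∈ B) (h0 : blockHeight p B (χ : G → ℂ) = 0) :
    classInner (regPart p (ψ : G → ℂ)) (χ : G → ℂ) ≠ 0 := by
  have := IsPModular.isPrime hM
  intro hz
  apply not_memLocalIdeal_om_creg hM hB hχ h0
  have h1 := om_sub_memLocalIdeal ψ.2 χ.2 (IsPBlock.sameBlock hB hψ hχ)
      (isClassFunction_creg (p := p) (irr_isClassFunction χ.2))
      (memLocalRing_creg (IsIrrCharacter.isCharacter χ.2))
  rw [om_creg (ψ : G → ℂ), hz, mul_zero, zero_div] at h1
  exact (memLocalIdeal_congr h1).mp memLocalIdeal_zero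

theorem irr_mul_of_ker_regCent (hreg : RegCent p D) {χ : IrrCharacter G}
    (hker : ∀ n ∈ D, (χ : G → ℂ) n = (χ : G → ℂ) 1) (y : D) (x : G) (hx : ¬ p ∣ orderOf x) :
    (χ : G → ℂ) ((y : G) * x) = (fun _ : D => (1 : ℂ)) y * (χ : G → ℂ) x := by
  have h1 : (y : G) * x = x * y := (Subgroup.mem_centralizer_iff.mp (hreg x hx) y y.2)
  rw [h1, char_mul_of_ker (IsIrrCharacter.isCharacter χ.2) (hker y y.2), one_mul]

theorem classInner_one_one_sub : classInner (fun _ : D => (1 : ℂ)) (fun _ : D => (1 : ℂ)) = 1 := by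
  have hD0 : (Nat.card D : ℂ) ≠ 0 := card_subgroup_ne_zero _
  rw [classInner]
  simp only [map_one, mul_one, Finset.sum_const, Finset.card_univ, nsmul_eq_mul]
  rw [← Nat.card_eq_fintype_card, inv_mul_cancel₀ hD0]

theorem classInner_eq_card_mul_regPart [Fact p.Prime] (hM : IsPModular p M) [D.Normal]
    (hDp : IsPGroup p D) (hreg : RegCent p D)
    {B : Set (IrrCharacter G)} (hB : IsPBlock M B) (hD : IsDefectGroup p M B D)
    {χ χ' : IrrCharacter G} (hχ : χ ∈ B)
    (hker : ∀ n ∈ D, (χ : G → ℂ) n = (χ : G → ℂ) 1)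
    (hker' : ∀ n ∈ D, (χ' : G → ℂ) n = (χ' : G → ℂ) 1) :
    classInner (χ : G → ℂ) (χ' : G → ℂ) =
      (Nat.card D : ℂ) * classInner (regPart p (χ : G → ℂ)) (χ' : G → ℂ) := by
  rw [classInner_of_prod hM.1 hDp hreg (irr_mul_of_ker_regCent hreg hker)
    (irr_mul_of_ker_regCent hreg hker')
    (fun g z hz hzD => irr_eq_zero_of_normal_defect hM hB hD hχ hz hzD), classInner_one_one_sub,
    mul_one]

/-- The canonical character is unique. -/
theorem ker_unique [Fact p.Prime] (hM : IsPModular p M) [D.Normal]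
    (hDp : IsPGroup p D) (hreg : RegCent p D)
    {B : Set (IrrCharacter G)} (hB : IsPBlock M B) (hD : IsDefectGroup p M B D)
    {χ χ' : IrrCharacter G} (hχ : χ ∈ B) (hχ' : χ' ∈ B)
    (hker : ∀ n ∈ D, (χ : G → ℂ) n = (χ : G → ℂ) 1)
    (hker' : ∀ n ∈ D, (χ' : G → ℂ) n = (χ' : G → ℂ) 1) : χ = χ' := by
  by_contra hne
  have h1 := classInner_eq_card_mul_regPart hM hDp hreg hB hD hχ hker hker'
  rw [classInner_irr χ.2 χ'.2, if_neg (fun h => hne (Subtype.ext h))] at h1
  rcases mul_eq_zero.mp h1.symm with h | h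
  · exact card_subgroup_ne_zero _ h
  · exact classInner_regPart_ne_zero hM hB hχ' hχ (height_zero_of_ker hM hB hD hχ' hker') h

/-- On `p`-regular elements every character of the block is a multiple of the canonical
character. -/
theorem irr_reg_eq [Fact p.Prime] (hM : IsPModular p M) [D.Normal]
    (hDp : IsPGroup p D) (hreg : RegCent p D)
    {B : Set (IrrCharacter G)} (hB : IsPBlock M B) (hD : IsDefectGroup p M B D)
    {χ θ : IrrCharacter G} (hχ : χ ∈ B) (hθ : θ ∈ B)
    (hker : ∀ n ∈ D, (χ : G → ℂ) n = (χ : G → ℂ) 1) {x : G} (hx : ¬ p ∣ orderOf x) :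
    (θ : G → ℂ) x = (Nat.card D : ℂ) * classInner (regPart p (θ : G → ℂ)) (χ : G → ℂ) *
      (χ : G → ℂ) x := by
  rw [irr_reg_eq_sum hM hDp hreg hB hθ hx, Finset.sum_eq_single χ]
  · rw [Set.indicator_of_mem hχ, if_pos hker, Pi.one_apply, one_mul, mul_assoc]
  · intro η _ hη
    by_cases hηB : η ∈ B
    · rw [if_neg, mul_zero]
      intro hk
      exact hη (ker_unique hM hDp hreg hB hD hηB hχ hk hker)
    · rw [Set.indicator_of_notMem hηB, zero_mul]
  · intro h; exact absurd (Finset.mem_univ _) h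

theorem blockRank_eq_one_of_regCent [Fact p.Prime] (hM : IsPModular p M) [D.Normal]
    (hDp : IsPGroup p D) (hreg : RegCent p D)
    {B : Set (IrrCharacter G)} (hB : IsPBlock M B) (hD : IsDefectGroup p M B D) :
    blockRank p B = 1 := by
  obtain ⟨χ, hχ, hker⟩ := exists_mem_ker hM hDp hreg hB
  have h1 : ¬ p ∣ orderOf (1 : G) := by
    rw [orderOf_one]
    exact hM.1.one_lt.ne' ∘ Nat.dvd_one.mp
  have hv : pRegularPart p (χ : G → ℂ) ≠ 0 := by
    intro h
    have h2 := congrFun h 1
    rw [pRegularPart_of_reg _ h1] at h2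
    exact irr_one_ne_zero χ.2 h2
  have hspan : Submodule.span ℂ ((fun χ : IrrCharacter G => pRegularPart p (χ : G → ℂ)) '' B) =
      Submodule.span ℂ {pRegularPart p (χ : G → ℂ)} := by
    apply le_antisymm
    · rw [Submodule.span_le]
      rintro _ ⟨θ, hθ, rfl⟩
      refine Submodule.mem_span_singleton.mpr
        ⟨(Nat.card D : ℂ) * classInner (regPart p (θ : G → ℂ)) (χ : G → ℂ), ?_⟩
      funext x
      rw [Pi.smul_apply, smul_eq_mul]
      show _ = pRegularPart p (θ : G → ℂ) x
      by_cases hx : p ∣ orderOf x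
      · rw [pRegularPart_of_sing _ hx, pRegularPart_of_sing _ hx, mul_zero]
      · rw [pRegularPart_of_reg _ hx, pRegularPart_of_reg _ hx,
          ← irr_reg_eq hM hDp hreg hB hD hχ hθ hker hx]
    · rw [Submodule.span_le]
      rintro _ rfl
      exact Submodule.subset_span ⟨χ, hχ, rfl⟩
  rw [blockRank, hspan]
  exact finrank_span_singleton hv

theorem normal_of_le_center (h : D ≤ Subgroup.center G) : D.Normal := by
  refine ⟨fun n hn g => ?_⟩
  have h1 := Subgroup.mem_center_iff.mp (h hn) g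
  rw [h1, mul_inv_cancel_right]
  exact hn

theorem regCent_of_le_center (h : D ≤ Subgroup.center G) : RegCent p D := by
  intro x _
  rw [Subgroup.mem_centralizer_iff]
  intro y hy
  exact (Subgroup.mem_center_iff.mp (h hy) x).symm

theorem IsDefectGroup.isPGroup {B : Set (IrrCharacter G)} (hD : IsDefectGroup p M B D) :
    IsPGroup p D := by
  obtain ⟨g, -, hDg⟩ := isDefectGroup_iff.mp hD
  exact hDg.isPGroup

end

end Cfsg.Agent.Lib.Helper6
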