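import Mathlib
import Cfsg.Prelude.Def_Blocks
import Cfsg.Agent.Lib.Helper6.CentralProd2

/-!
# Blocks with defect group `D` of a group `G = D C_G(D)`
-/

set_option autoImplicit false
set_option linter.unusedSectionVars false

namespace Cfsg.Agent.Lib.Helper6

open Cfsg Cfsg.Agent.Lib.Helper2 Cfsg.Agent.Lib.Helper24
open scoped ComplexConjugate Classical

attribute [local instance] irrFintype

section

variable {G : Type*} [Group G] [Fintype G] {p : ℕ} {D : Subgroup G} {M : Ideal AlgInt}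

theorem normal_of_sup (hG : D ⊔ Subgroup.centralizer (D : Set G) = ⊤) : D.Normal := by
  rw [← Subgroup.normalizer_eq_top_iff, eq_top_iff, ← hG]
  exact sup_le Subgroup.le_normalizer (Subgroup.centralizer_le_normalizer _)

theorem exists_mul_of_sup (hG : D ⊔ Subgroup.centralizer (D : Set G) = ⊤) (g : G) :
    ∃ d ∈ D, ∃ c ∈ Subgroup.centralizer (D : Set G), g = d * c := by
  have := normal_of_sup hG
  have h1 : g ∈ ((D ⊔ Subgroup.centralizer (D : Set G) : Subgroup G) : Set G) := by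
    rw [hG]; trivial
  rw [Subgroup.normal_mul] at h1
  obtain ⟨d, hd, c, hc, rfl⟩ := Set.mem_mul.mp h1
  exact ⟨d, hd, c, hc, rfl⟩

theorem regCent_of_sup (hp : p.Prime) (hDp : IsPGroup p D)
    (hG : D ⊔ Subgroup.centralizer (D : Set G) = ⊤) : RegCent p D := by
  have : Fact p.Prime := ⟨hp⟩
  intro x hx
  obtain ⟨d, hd, c, hc, rfl⟩ := exists_mul_of_sup hG x
  obtain ⟨k, hk⟩ := hDp ⟨d, hd⟩
  have hk' : d ^ (p ^ k) = 1 := by simpa using congrArg Subtype.val hk
  have hcomm : Commute d c := Subgroup.mem_centralizer_iff.mp hc d hd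
  have h1 : (d * c) ^ (p ^ k) = c ^ (p ^ k) := by
    rw [hcomm.mul_pow, hk', one_mul]
  have hcop : Nat.Coprime (p ^ k) (orderOf (d * c)) :=
    Nat.Coprime.pow_left k ((Nat.Prime.coprime_iff_not_dvd hp).mpr hx)
  obtain ⟨m, hm⟩ := exists_pow_eq_self_of_coprime hcop
  rw [← hm, h1]
  exact Subgroup.pow_mem _ (Subgroup.pow_mem _ hc _) _

theorem conj_eq_of_sup (hG : D ⊔ Subgroup.centralizer (D : Set G) = ⊤) {y u : G} (hy : y ∈ D)
    (h : IsConj y u) : ∃ d ∈ D, u = d * y * d⁻¹ := by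
  obtain ⟨g, hg⟩ := isConj_iff.mp h
  obtain ⟨d, hd, c, hc, rfl⟩ := exists_mul_of_sup hG g
  refine ⟨d, hd, ?_⟩
  have hcomm : y * c = c * y := Subgroup.mem_centralizer_iff.mp hc y hy
  rw [← hg, mul_inv_rev]
  have : c * y * c⁻¹ = y := by rw [← hcomm, mul_inv_cancel_right]
  calc d * c * y * (c⁻¹ * d⁻¹) = d * (c * y * c⁻¹) * d⁻¹ := by group
    _ = d * y * d⁻¹ := by rw [this]

/-- Factorization of irreducible characters. -/
theorem irr_mul_of_sup (hG : D ⊔ Subgroup.centralizer (D : Set G) = ⊤) {θ : G → ℂ}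
    (hθ : IsIrrCharacter G θ) {y c : G} (hy : y ∈ D)
    (hc : c ∈ Subgroup.centralizer (D : Set G)) : θ (y * c) * θ 1 = θ y * θ c := by
  have h1 := sum_class_mul_irr hθ (isClassFunction_classInd y) c
  have h2 : ∀ u, classInd y u * θ (u * c) = classInd y u * θ (y * c) := by
    intro u
    rw [classInd_apply]
    split_ifs with hu
    · obtain ⟨d, hd, rfl⟩ := conj_eq_of_sup hG hy hu
      have hcomm : d⁻¹ * c = c * d⁻¹ := Subgroup.mem_centralizer_iff.mp hc d⁻¹ (D.inv_mem hd)
      have : d * y * d⁻¹ * c = d * (y * c) * d⁻¹ := by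
        rw [mul_assoc (d * y), hcomm]; group
      rw [this, irr_isClassFunction hθ]
    · rw [zero_mul, zero_mul]
  rw [Finset.sum_congr rfl (fun u _ => h2 u), ← Finset.sum_mul, sum_classInd,
    om_classInd (irr_isClassFunction hθ), centralChar] at h1
  have h3 := index_centralizer_ne_zero y
  have h4 := irr_one_ne_zero hθ
  field_simp at h1
  linear_combination h1

/-- The restriction to `D` is a multiple of an irreducible character. -/
theorem exists_irr_sub (hG : D ⊔ Subgroup.centralizer (D : Set G) = ⊤) {θ : G → ℂ}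
    (hθ : IsIrrCharacter G θ) :
    ∃ ζ : IrrCharacter D, ∀ y : D, θ y * (ζ : D → ℂ) 1 = (ζ : D → ℂ) y * θ 1 := by
  have hn := normal_of_sup hG
  obtain ⟨ζ, hζ⟩ := exists_constituent D hθ
  refine ⟨ζ, fun y => ?_⟩
  have hsupp : ∀ g, g ∉ D → classInd (y : G) g = 0 := by
    intro g hg
    rw [classInd_apply, if_neg]
    intro hc
    obtain ⟨d, hd, rfl⟩ := conj_eq_of_sup hG y.2 hc
    exact hg (D.mul_mem (D.mul_mem hd y.2) (D.inv_mem hd))
  have h1 := om_eq_om_of_constituent D (isClassFunction_classInd (y : G)) hsupp hθ ζ hζ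
  rw [om_classInd (irr_isClassFunction hθ), centralChar, om] at h1
  have h2 : ∀ n : D, classInd (y : G) (n : G) * (ζ : D → ℂ) n =
      classInd (y : G) (n : G) * (ζ : D → ℂ) y := by
    intro n
    rw [classInd_apply]
    split_ifs with hu
    · obtain ⟨d, hd, hn'⟩ := conj_eq_of_sup hG y.2 hu
      have : n = ⟨d, hd⟩ * y * ⟨d, hd⟩⁻¹ := Subtype.ext hn'
      rw [this, irr_isClassFunction ζ.2]
    · rw [zero_mul, zero_mul]
  have h3 : ∑ n : D, classInd (y : G) (n : G) = ∑ g : G, classInd (y : G) g := by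
    apply Fintype.sum_of_injective (Subtype.val : D → G) Subtype.val_injective
    · intro g hg
      apply hsupp
      intro hg'
      exact hg ⟨⟨g, hg'⟩, rfl⟩
    · intro n; rfl
  rw [Finset.sum_congr rfl (fun n _ => h2 n), ← Finset.sum_mul, h3, sum_classInd] at h1
  have h4 := index_centralizer_ne_zero (y : G)
  have h5 := irr_one_ne_zero hθ
  have h6 := irr_one_ne_zero ζ.2
  field_simp at h1
  linear_combination h1

theorem not_dvd_orderOf_one (hp : p.Prime) : ¬ p ∣ orderOf (1 : G) := by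
  rw [orderOf_one]
  exact hp.one_lt.ne' ∘ Nat.dvd_one.mp

/-- The characters of the block are the products `ζ × χ`. -/
theorem exists_zeta [Fact p.Prime] (hM : IsPModular p M) (hDp : IsPGroup p D)
    (hG : D ⊔ Subgroup.centralizer (D : Set G) = ⊤)
    {B : Set (IrrCharacter G)} (hB : IsPBlock M B) (hD : IsDefectGroup p M B D)
    {χ θ : IrrCharacter G} (hχ : χ ∈ B) (hθ : θ ∈ B)
    (hker : ∀ n ∈ D, (χ : G → ℂ) n = (χ : G → ℂ) 1) :
    ∃ ζ : IrrCharacter D, ∀ (y : D) (x : G), ¬ p ∣ orderOf x →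
      (θ : G → ℂ) ((y : G) * x) = (ζ : D → ℂ) y * (χ : G → ℂ) x := by
  have hn := normal_of_sup hG
  have hreg := regCent_of_sup hM.1 hDp hG
  obtain ⟨ζ, hζ⟩ := exists_irr_sub hG θ.2
  refine ⟨ζ, ?_⟩
  set a : ℂ := (Nat.card D : ℂ) * classInner (regPart p (θ : G → ℂ)) (χ : G → ℂ) with ha
  set κ : ℂ := a / (ζ : D → ℂ) 1 with hκ
  have hθ1 := irr_one_ne_zero θ.2
  have hζ1 := irr_one_ne_zero ζ.2
  have hχ1 := irr_one_ne_zero χ.2
  have key : ∀ (y : D) (x : G), ¬ p ∣ orderOf x →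
      (θ : G → ℂ) ((y : G) * x) = (κ • (ζ : D → ℂ)) y * (χ : G → ℂ) x := by
    intro y x hx
    have h1 := irr_mul_of_sup hG θ.2 y.2 (hreg x hx)
    have h2 := irr_reg_eq hM hDp hreg hB hD hχ hθ hker hx
    have h3 := hζ y
    rw [← ha] at h2
    apply mul_right_cancel₀ hθ1
    rw [h1, h2, hκ, Pi.smul_apply, smul_eq_mul]
    field_simp
    linear_combination (a * (χ : G → ℂ) x) * h3
  have hk1 : (θ : G → ℂ) 1 = κ * (ζ : D → ℂ) 1 * (χ : G → ℂ) 1 := by
    have := key 1 1 (not_dvd_orderOf_one hM.1)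
    simpa using this
  have hnorm := classInner_of_prod hM.1 hDp hreg key key
    (fun g z hz hzD => irr_eq_zero_of_normal_defect hM hB hD hθ hz hzD)
  have h4 := classInner_eq_card_mul_regPart hM hDp hreg hB hD hχ hker hker
  rw [classInner_irr θ.2 θ.2, if_pos rfl, classInner_smul_left, classInner_smul_right,
    classInner_irr ζ.2 ζ.2, if_pos rfl] at hnorm
  rw [classInner_irr χ.2 χ.2, if_pos rfl] at h4
  have h6 : κ * conj κ = 1 := by
    linear_combination (-1 : ℂ) * hnorm + (κ * conj κ) * h4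
  have h7 : κ = ((charDegree (θ : G → ℂ) : ℕ) : ℂ) /
      (((charDegree (ζ : D → ℂ) : ℕ) : ℂ) * ((charDegree (χ : G → ℂ) : ℕ) : ℂ)) := by
    rw [charDegree_cast (IsIrrCharacter.isCharacter θ.2),
      charDegree_cast (IsIrrCharacter.isCharacter ζ.2),
      charDegree_cast (IsIrrCharacter.isCharacter χ.2), hk1]
    field_simp
  have h8 : conj κ = κ := by
    rw [h7, map_div₀, map_mul, Complex.conj_natCast, Complex.conj_natCast, Complex.conj_natCast]
  rw [h8] at h6
  have h9 : κ = 1 := by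
    rcases mul_self_eq_one_iff.mp h6 with h | h
    · exact h
    · exfalso
      rw [h] at hk1
      rw [← charDegree_cast (IsIrrCharacter.isCharacter θ.2),
        ← charDegree_cast (IsIrrCharacter.isCharacter ζ.2),
        ← charDegree_cast (IsIrrCharacter.isCharacter χ.2)] at hk1
      have h10 : ((charDegree (θ : G → ℂ) + charDegree (ζ : D → ℂ) * charDegree (χ : G → ℂ) : ℕ)
          : ℂ) = 0 := by
        push_cast
        linear_combination hk1
      have h11 := Nat.cast_eq_zero.mp h10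
      have := charDegree_pos θ.2
      omega
  intro y x hx
  rw [key y x hx, h9, one_smul]

/-- Conversely, a product `ζ × χ` lies in the block. -/
theorem mem_of_zeta [Fact p.Prime] (hM : IsPModular p M) (hDp : IsPGroup p D)
    (hG : D ⊔ Subgroup.centralizer (D : Set G) = ⊤)
    {B : Set (IrrCharacter G)} (hB : IsPBlock M B) (hD : IsDefectGroup p M B D)
    {χ θ : IrrCharacter G} (hχ : χ ∈ B)
    (hker : ∀ n ∈ D, (χ : G → ℂ) n = (χ : G → ℂ) 1) (ζ : IrrCharacter D)
    (h : ∀ (y : D) (x : G), ¬ p ∣ orderOf x →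
      (θ : G → ℂ) ((y : G) * x) = (ζ : D → ℂ) y * (χ : G → ℂ) x) : θ ∈ B := by
  have hn := normal_of_sup hG
  have hreg := regCent_of_sup hM.1 hDp hG
  by_contra hθ
  have h1 := classInner_regPart_eq_zero hM hB hχ hθ
  rw [classInner_regPart_symm] at h1
  have h2 : regPart p (θ : G → ℂ) = (ζ : D → ℂ) 1 • regPart p (χ : G → ℂ) := by
    funext x
    rw [Pi.smul_apply, smul_eq_mul, regPart_apply, regPart_apply]
    split_ifs with hx
    · rw [mul_zero]
    · have := h 1 x hx
      simpa using this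
  have h4 := classInner_eq_card_mul_regPart hM hDp hreg hB hD hχ hker hker
  rw [classInner_irr χ.2 χ.2, if_pos rfl] at h4
  rw [h2, classInner_smul_left] at h1
  rcases mul_eq_zero.mp h1 with h5 | h5
  · exact irr_one_ne_zero ζ.2 h5
  · rw [h5, mul_zero] at h4
    exact one_ne_zero h4

/-- Every irreducible character of `D` occurs. -/
theorem exists_of_zeta [Fact p.Prime] (hM : IsPModular p M) (hDp : IsPGroup p D)
    (hG : D ⊔ Subgroup.centralizer (D : Set G) = ⊤)
    {B : Set (IrrCharacter G)} (hB : IsPBlock M B) (hD : IsDefectGroup p M B D)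
    {χ : IrrCharacter G} (hχ : χ ∈ B)
    (hker : ∀ n ∈ D, (χ : G → ℂ) n = (χ : G → ℂ) 1) (ζ : IrrCharacter D) :
    ∃ θ ∈ B, ∀ (y : D) (x : G), ¬ p ∣ orderOf x →
      (θ : G → ℂ) ((y : G) * x) = (ζ : D → ℂ) y * (χ : G → ℂ) x := by
  by_contra hcon
  push Not at hcon
  have hD0 : (Nat.card D : ℂ) ≠ 0 := card_subgroup_ne_zero _
  have h1 : ∀ θ ∈ B, ∑ y : D, (θ : G → ℂ) y * conj ((ζ : D → ℂ) y) = 0 := by
    intro θ hθ
    obtain ⟨ζ', hζ'⟩ := exists_zeta hM hDp hG hB hD hχ hθ hker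
    have hne : ζ' ≠ ζ := by
      rintro rfl
      obtain ⟨y, x, hx, hne⟩ := hcon θ hθ
      exact hne (hζ' y x hx)
    have h2 := classInner_irr ζ'.2 ζ.2
    rw [if_neg (fun h => hne (Subtype.ext h)), classInner] at h2
    have h3 := (mul_eq_zero.mp h2).resolve_left (inv_ne_zero hD0)
    have h4 : ∀ y : D, (θ : G → ℂ) y * conj ((ζ : D → ℂ) y) =
        (χ : G → ℂ) 1 * ((ζ' : D → ℂ) y * conj ((ζ : D → ℂ) y)) := by
      intro y
      have := hζ' y 1 (not_dvd_orderOf_one hM.1)
      rw [mul_one] at this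
      rw [this]; ring
    rw [Finset.sum_congr rfl (fun y _ => h4 y), ← Finset.mul_sum, h3, mul_zero]
  set f : D → ℂ := fun y => ∑ θ : IrrCharacter G, B.indicator 1 θ *
    ((θ : G → ℂ) y * conj ((θ : G → ℂ) 1)) with hf
  have h2 : ∑ y : D, f y * conj ((ζ : D → ℂ) y) = 0 := by
    simp only [hf, Finset.sum_mul]
    rw [Finset.sum_comm]
    refine Finset.sum_eq_zero fun θ _ => ?_
    by_cases hθ : θ ∈ B
    · have h3 : ∀ y : D, B.indicator 1 θ * ((θ : G → ℂ) y * conj ((θ : G → ℂ) 1)) *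
          conj ((ζ : D → ℂ) y) = conj ((θ : G → ℂ) 1) *
          ((θ : G → ℂ) y * conj ((ζ : D → ℂ) y)) := by
        intro y
        rw [Set.indicator_of_mem hθ, Pi.one_apply]; ring
      rw [Finset.sum_congr rfl (fun y _ => h3 y), ← Finset.mul_sum, h1 θ hθ, mul_zero]
    · refine Finset.sum_eq_zero fun y _ => ?_
      rw [Set.indicator_of_notMem hθ, zero_mul, zero_mul]
  have h3 : ∀ y : D, y ≠ 1 → f y = 0 := by
    intro y hy
    apply weak_block_orthogonality' hM hB (not_dvd_orderOf_one hM.1)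
    obtain ⟨k, hk⟩ := (IsPGroup.iff_orderOf.mp hDp) y
    rw [Subgroup.orderOf_coe, hk]
    apply dvd_pow_self
    rintro rfl
    rw [pow_zero, orderOf_eq_one_iff] at hk
    exact hy hk
  rw [Finset.sum_eq_single (1 : D) (fun y _ hy => by rw [h3 y hy, zero_mul])
    (fun h => absurd (Finset.mem_univ _) h)] at h2
  rcases mul_eq_zero.mp h2 with h4 | h4
  · have h5 : f 1 = ((∑ θ : IrrCharacter G, (if θ ∈ B then
        charDegree (θ : G → ℂ) * charDegree (θ : G → ℂ) else 0) : ℕ) : ℂ) := by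
      rw [hf]
      push_cast
      refine Finset.sum_congr rfl fun θ _ => ?_
      rw [← charDegree_cast (IsIrrCharacter.isCharacter θ.2), Complex.conj_natCast]
      by_cases hθ : θ ∈ B
      · rw [Set.indicator_of_mem hθ, if_pos hθ, Pi.one_apply, one_mul]
      · rw [Set.indicator_of_notMem hθ, if_neg hθ, zero_mul]
    rw [h5] at h4
    have h6 := Nat.cast_eq_zero.mp h4
    have h7 := (Finset.sum_eq_zero_iff.mp h6) χ (Finset.mem_univ _)
    rw [if_pos hχ] at h7
    have := charDegree_pos χ.2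
    rcases Nat.mul_eq_zero.mp h7 with h | h <;> omega
  · rw [map_eq_zero] at h4
    exact irr_one_ne_zero ζ.2 h4

end

end Cfsg.Agent.Lib.Helper6
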