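import Mathlib
import Cfsg.Prelude.Def_Blocks
import Cfsg.Agent.Lib.Helper6.CentralProd3
import Cfsg.Agent.Lib.Helper6.Inflate

/-!
# Blocks of `G` and of `G ⧸ D` when all `p`-regular elements centralize the normal `p`-subgroup `D`
-/

set_option autoImplicit false
set_option linter.unusedSectionVars false

namespace Cfsg.Agent.Lib.Helper6

open Cfsg Cfsg.Agent.Lib.Helper2 Cfsg.Agent.Lib.Helper24
open scoped ComplexConjugate Classical

attribute [local instance] irrFintype

section

variable {K : Type*} [Group K] [Fintype K] {p : ℕ} {M : Ideal AlgInt}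

/-- Central characters congruent on the `p`-regular classes belong to the same block. -/
theorem sameBlock_of_reg (hM : IsPModular p M) (χ ψ : IrrCharacter K)
    (h : ∀ g : K, ¬ p ∣ orderOf g →
      MemLocalIdeal M (centralChar (χ : K → ℂ) g - centralChar (ψ : K → ℂ) g)) :
    SameBlock M (χ : K → ℂ) (ψ : K → ℂ) := by
  have := IsPModular.isPrime hM
  set B := blockOf M (χ : K → ℂ) with hBdef
  have hB : IsPBlock M B := ⟨χ, rfl⟩
  have hχ : χ ∈ B := mem_blockOf_self χ
  have hcl : IsClassFunction K (coef (B.indicator 1)) := isClassFunction_coef _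
  have h1 : MemLocalIdeal M (om (χ : K → ℂ) (coef (B.indicator 1)) -
      om (ψ : K → ℂ) (coef (B.indicator 1))) := by
    rw [om_eq_sum_classes (irr_isClassFunction χ.2) hcl,
      om_eq_sum_classes (irr_isClassFunction ψ.2) hcl, ← Finset.sum_sub_distrib]
    refine MemLocalIdeal.sum _ fun C _ => ?_
    rw [← mul_sub]
    by_cases hC : p ∣ orderOf (Quotient.out C)
    · rw [coef_indicator_eq_zero hM hB hC, zero_mul]
      exact memLocalIdeal_zero
    · exact MemLocalIdeal.mul_left (IsPBlock.indicator_mem_ZS hB _) (h _ hC)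
  rw [om_coef, om_coef, Set.indicator_of_mem hχ, Pi.one_apply] at h1
  by_contra hcon
  have hψ : ψ ∉ B := hcon
  rw [Set.indicator_of_notMem hψ, sub_zero] at h1
  exact not_memLocalIdeal_one h1

end

section

variable {G : Type*} [Group G] [Fintype G] {p : ℕ} (D : Subgroup G) [D.Normal] [Fintype (G ⧸ D)]
  {M : Ideal AlgInt}

theorem not_dvd_orderOf_mk {x : G} (hx : ¬ p ∣ orderOf x) : ¬ p ∣ orderOf (x : G ⧸ D) :=
  fun h => hx (h.trans (orderOf_map_dvd (QuotientGroup.mk' D) x))

/-- If the image of `g` is `p`-regular, then the `p`-part of `g` lies in `D`. -/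
theorem pPart_mem_of_mk_reg (hp : p.Prime) {g z : G} (hz : IsPPart p g z)
    (hg : ¬ p ∣ orderOf (g : G ⧸ D)) : z ∈ D := by
  obtain ⟨w, rfl, hcomm, ⟨k, hk⟩, hw⟩ := hz
  have h1 : IsPPart p ((z * w : G) : G ⧸ D) (z : G ⧸ D) := by
    refine ⟨(w : G ⧸ D), rfl, hcomm.map (QuotientGroup.mk' D), ?_, not_dvd_orderOf_mk D hw⟩
    have h2 : orderOf (z : G ⧸ D) ∣ p ^ k := by
      rw [← hk]; exact orderOf_map_dvd (QuotientGroup.mk' D) z
    obtain ⟨j, -, hj⟩ := (Nat.dvd_prime_pow hp).mp h2
    exact ⟨j, hj⟩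
  have h2 : IsPPart p ((z * w : G) : G ⧸ D) 1 :=
    ⟨_, one_mul _, Commute.one_left _, ⟨0, by simp⟩, hg⟩
  exact (QuotientGroup.eq_one_iff z).mp (IsPPart.unique hp h1 h2)

/-- `p`-regular elements of the quotient lift to `p`-regular elements. -/
theorem exists_reg_lift (hp : p.Prime) {q : G ⧸ D} (hq : ¬ p ∣ orderOf q) :
    ∃ x : G, ¬ p ∣ orderOf x ∧ (x : G ⧸ D) = q := by
  obtain ⟨g, rfl⟩ := QuotientGroup.mk_surjective q
  obtain ⟨z, hz⟩ := exists_isPPart hp g
  have hzD := pPart_mem_of_mk_reg D hp hz hq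
  obtain ⟨w, rfl, -, -, hw⟩ := hz
  refine ⟨w, hw, ?_⟩
  rw [QuotientGroup.mk_mul, (QuotientGroup.eq_one_iff z).mpr hzD, one_mul]

theorem push_classInd (hp : p.Prime) (hDp : IsPGroup p D) (hreg : RegCent p D) {x : G}
    (hx : ¬ p ∣ orderOf x) : push D (classInd x) = classInd (x : G ⧸ D) := by
  funext q
  rw [push_apply, classInd_apply]
  split_ifs with hq
  · obtain ⟨t, ht⟩ := isConj_iff.mp hq
    obtain ⟨s, rfl⟩ := QuotientGroup.mk_surjective t
    rw [Finset.sum_eq_single (s * x * s⁻¹)]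
    · rw [if_pos (by rw [← ht]; rfl), classInd_apply, if_pos (isConj_iff.mpr ⟨s, rfl⟩)]
    · intro g _ hg
      split_ifs with hgq
      · rw [classInd_apply, if_neg]
        intro hc
        have h1 : g * (s * x * s⁻¹)⁻¹ ∈ D := by
          rw [← QuotientGroup.eq_one_iff, QuotientGroup.mk_mul, QuotientGroup.mk_inv, hgq, ← ht]
          exact mul_inv_cancel _
        have h2 : g * (s * x * s⁻¹)⁻¹ ≠ 1 := by
          intro h
          exact hg (mul_inv_eq_one.mp h)
        have h3 : ¬ p ∣ orderOf (s * x * s⁻¹) := by rwa [orderOf_conj_eq]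
        have h4 := dvd_orderOf_mul_of_regCent hp hDp hreg h1 h2 h3
        rw [inv_mul_cancel_right] at h4
        obtain ⟨r, rfl⟩ := isConj_iff.mp hc
        rw [orderOf_conj_eq] at h4
        exact hx h4
      · rfl
    · intro h; exact absurd (Finset.mem_univ _) h
  · refine Finset.sum_eq_zero fun g _ => ?_
    split_ifs with hgq
    · rw [classInd_apply, if_neg]
      intro hc
      apply hq
      rw [← hgq]
      obtain ⟨r, rfl⟩ := isConj_iff.mp hc
      exact isConj_iff.mpr ⟨(r : G ⧸ D), rfl⟩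
    · rfl

theorem sameBlock_of_infl_regCent (hM : IsPModular p M) (hDp : IsPGroup p D) (hreg : RegCent p D)
    (χ ψ : IrrCharacter (G ⧸ D))
    (h : SameBlock M (infl D (χ : G ⧸ D → ℂ)) (infl D (ψ : G ⧸ D → ℂ))) :
    SameBlock M (χ : G ⧸ D → ℂ) (ψ : G ⧸ D → ℂ) := by
  apply sameBlock_of_reg hM
  intro q hq
  obtain ⟨x, hx, rfl⟩ := exists_reg_lift D hM.1 hq
  rw [← om_classInd (irr_isClassFunction χ.2), ← om_classInd (irr_isClassFunction ψ.2),
    ← push_classInd D hM.1 hDp hreg hx, ← om_infl, ← om_infl,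
    om_classInd (irr_isClassFunction (isIrrCharacter_infl D χ.2)),
    om_classInd (irr_isClassFunction (isIrrCharacter_infl D ψ.2))]
  exact h x

end

end Cfsg.Agent.Lib.Helper6
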